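import Cfsg.Agent.Lib.NormCyclic.Local
import Cfsg.Agent.Lib.CNSimple.Final
import Cfsg.Agent.Lib.DGroup.MainPSL
import Cfsg.Agent.Lib.CoverThreeFour.Matrices

/-!
The case of `2`-groups as centralisers of involutions: only `PSL(2, q)` survives.
-/

set_option autoImplicit false
set_option linter.style.haveILetI false
set_option linter.unusedSectionVars false

namespace Cfsg.Agent.NormCyc

open Cfsg.Agent.Invol Cfsg.Agent.BSW

universe u

variable {G : Type u} [Group G] [Finite G]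

theorem three_lt_card {F : Type} [Field F] [Fintype F]
    (hns : ¬ Group.IsSolvable (Matrix.ProjectiveSpecialLinearGroup (Fin 2) F)) :
    3 < Fintype.card F := by
  have h1 : 1 < Fintype.card F := Fintype.one_lt_card
  by_contra hlt
  rcases (show Fintype.card F = 2 ∨ Fintype.card F = 3 by omega) with h | h
  · refine hns (Char.isSolvable_of_card_pq 2 3 Nat.prime_two Nat.prime_three _ _
      (show Nat.card (Matrix.ProjectiveSpecialLinearGroup (Fin 2) F) = 2 ^ 1 * 3 ^ 1 from ?_)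
      ⟨1, 1, rfl⟩)
    have hg := Dickson.gcd_mul_card_psl (K := F)
    rw [Nat.card_eq_fintype_card (α := F), h] at hg
    norm_num at hg ⊢
    omega
  · exact hns (DGroup.solvable_psl_three h)

/-- An abelian good subgroup. -/
theorem ti_comm [IsSimpleGroup G] (h : NC G) (hcit : CNSimple.CIT G) {K : Subgroup G}
    (hK : CNSimple.TIHyp K) : ∀ a ∈ K, ∀ b ∈ K, a * b = b * a := by
  haveI : Fact (Nat.Prime 2) := ⟨Nat.prime_two⟩
  obtain ⟨z₀, hz₀K, hz₀, -⟩ := hK.exists_central
  have h2 : IsPGroup 2 K := by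
    rw [← hK.Ct_invol hz₀ hz₀K]
    exact hcit z₀ hz₀
  have hbase : ∀ x ∈ K, x ≠ 1 → ∃ v, orderOf v = 2 ∧ v ∈ Subgroup.zpowers x ∧ v ∈ K := by
    intro x hx hx1
    obtain ⟨k, hk⟩ := IsPGroup.iff_orderOf.1 h2 ⟨x, hx⟩
    rw [Subgroup.orderOf_mk] at hk
    obtain ⟨v, hv, hvx⟩ := exists_invol_zpowers (even_of_two_power ⟨k, hk⟩ hx1)
    exact ⟨v, hv, hvx, Subgroup.zpowers_le.2 hx hvx⟩
  have hnorm : ∀ g ∈ K, ∀ x ∈ K, g * x * g⁻¹ ∈ Subgroup.zpowers x := by
    intro g hg x hx
    by_cases hx1 : x = 1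
    · rw [hx1, mul_one, mul_inv_cancel]; exact one_mem _
    obtain ⟨v, hv, hvx, hvK⟩ := hbase x hx hx1
    refine conj_mem h hv hvx ?_
    show g ∈ CNSimple.Ct v
    rw [hK.Ct_invol hv hvK]
    exact hg
  -- elements with different involutions among their powers commute
  have hdiff : ∀ x ∈ K, ∀ y ∈ K, ∀ v w : G, orderOf v = 2 → orderOf w = 2 →
      v ∈ Subgroup.zpowers x → w ∈ Subgroup.zpowers y → v ≠ w → x * y = y * x := by
    intro x hx y hy v w hv hw hvx hwy hvw
    by_contra hne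
    set c := x * y * x⁻¹ * y⁻¹ with hc
    have hcx : c ∈ Subgroup.zpowers x := by
      rw [hc, show x * y * x⁻¹ * y⁻¹ = x * (y * x⁻¹ * y⁻¹) by group]
      refine mul_mem (Subgroup.mem_zpowers x) ?_
      rw [← conj_inv]
      exact inv_mem (hnorm y hy x hx)
    have hcy : c ∈ Subgroup.zpowers y :=
      mul_mem (hnorm x hx y hy) (inv_mem (Subgroup.mem_zpowers y))
    have hc1 : c ≠ 1 := fun e => hne (mul_inv_eq_iff_eq_mul.1 (mul_inv_eq_one.1 e))
    obtain ⟨s, hs, hsc, -⟩ := hbase c (Subgroup.zpowers_le.2 hx hcx) hc1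
    exact hvw ((invol_unique hv hs hvx (Subgroup.zpowers_le.2 hcx hsc)).trans
      (invol_unique hs hw (Subgroup.zpowers_le.2 hcy hsc) hwy))
  intro x hx y hy
  by_cases hx1 : x = 1
  · rw [hx1, one_mul, mul_one]
  by_cases hy1 : y = 1
  · rw [hy1, one_mul, mul_one]
  obtain ⟨z, hz, hzx, hzK⟩ := hbase x hx hx1
  obtain ⟨w, hw, hwy, -⟩ := hbase y hy hy1
  by_cases hzw : z = w
  swap
  · exact hdiff x hx y hy z w hz hw hzx hwy hzw
  subst hzw
  -- a second involution
  have hm : 1 < Nat.card hK.J := hK.two_le_m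
  haveI := Finite.one_lt_card_iff_nontrivial.1 hm
  obtain ⟨⟨z', hz', hz'K⟩, hne⟩ := exists_ne (⟨z, hz, hzK⟩ : hK.J)
  have hzz' : z' ≠ z := fun e => hne (Subtype.ext e)
  obtain ⟨g, hg⟩ := isConj_iff.1 (hK.isConj hz hz')
  have hgN := hK.mem_N_of_meet hzK (ne_one hz) (hg ▸ hz'K)
  set x' := g * x * g⁻¹ with hx'
  have hx'K : x' ∈ K := hK.conj_K hgN hx
  obtain ⟨j, hj⟩ := hzx
  have hj' : x' ^ j = z' := by
    rw [hx', _root_.conj_zpow, ← hg]
    exact congrArg (fun u => g * u * g⁻¹) hj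
  have hc1 : x * x' = x' * x :=
    hdiff x hx x' hx'K z z' hz hz' ⟨j, hj⟩ ⟨j, hj'⟩ (Ne.symm hzz')
  have hc2 : x' * y = y * x' := hdiff x' hx'K y hy z' z hz' hz ⟨j, hj'⟩ hwy hzz'
  have hzz : z * z' = z' * z := by
    rw [← show x ^ j = z from hj, ← hj']
    exact (show Commute x x' from hc1).zpow_zpow j j
  have hord : orderOf (z * z') = 2 := by
    refine order_two_of_sq ?_ fun e => hzz' ?_
    · rw [show z * z' * (z * z') = z * (z' * z) * z' by group, ← hzz,
        show z * (z * z') * z' = (z * z) * (z' * z') by group, mul_self hz, mul_self hz', one_mul]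
    · rw [eq_inv_of_mul_eq_one_right e, inv_self hz]
  have hc3 : (x * x') * y = y * (x * x') := by
    refine hdiff _ (mul_mem hx hx'K) y hy (z * z') z hord hz ⟨j, ?_⟩ hwy fun e => ?_
    · show (x * x') ^ j = z * z'
      rw [(show Commute x x' from hc1).mul_zpow, hj']
      exact congrArg (· * z') hj
    · exact ne_one hz' (mul_eq_left.1 e)
  calc x * y = (x * x') * (x'⁻¹ * y) := by group
    _ = (x * x') * y * x'⁻¹ := by
        rw [((show Commute x' y from hc2).inv_left).eq, mul_assoc (x * x')]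
    _ = y * x := by rw [hc3]; group

/-- `PSL(3, 4)` does not satisfy the hypothesis. -/
theorem not_l34 {F : Type} [Field F] [Fintype F] (hF : Fintype.card F = 4)
    (h : NC (Matrix.ProjectiveSpecialLinearGroup (Fin 3) F)) : False := by
  classical
  haveI h2 : CharP F 2 := by
    obtain ⟨p, hp⟩ := CharP.exists F
    obtain ⟨n, hpp, hn⟩ := FiniteField.card F p
    have : p = 2 := by
      rw [hF] at hn
      exact (Nat.prime_dvd_prime_iff_eq hpp Nat.prime_two).1
        (hpp.dvd_of_dvd_pow (show p ∣ 2 ^ 2 by rw [show (2:ℕ) ^ 2 = 4 by norm_num, hn]; exact dvd_pow_self p n.pos.ne'))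
    exact this ▸ hp
  obtain ⟨w, hw0, hw1⟩ : ∃ w : F, w ≠ 0 ∧ w ≠ 1 := by
    by_contra hcon
    push Not at hcon
    have : Finset.univ ⊆ ({0, 1} : Finset F) := fun x _ => by
      by_cases hx : x = 0
      · simp [hx]
      · simp [hcon x hx]
    have := Finset.card_le_card this
    rw [Finset.card_univ, hF] at this
    exact absurd (this.trans Finset.card_le_two) (by norm_num)
  obtain ⟨X, hX⟩ : ∃ X : Matrix.SpecialLinearGroup (Fin 3) F,
      X.1 = !![1, 1, 0; 0, 1, 1; 0, 0, 1] := ⟨⟨_, by rw [Matrix.det_fin_three]; simp⟩, rfl⟩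
  obtain ⟨K, hK⟩ : ∃ K : Matrix.SpecialLinearGroup (Fin 3) F,
      K.1 = !![1, w, 0; 0, 1, 0; 0, 0, 1] := ⟨⟨_, by rw [Matrix.det_fin_three]; simp⟩, rfl⟩
  have hm : ∀ A B : Matrix.SpecialLinearGroup (Fin 3) F, (A * B).1 = A.1 * B.1 := fun _ _ => rfl
  let π := QuotientGroup.mk' (Subgroup.center (Matrix.SpecialLinearGroup (Fin 3) F))
  -- entries of elements with equal images
  have hscal : ∀ A B : Matrix.SpecialLinearGroup (Fin 3) F, π A = π B →
      ∃ c : F, ∀ i j, B.1 i j = c * A.1 i j := by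
    intro A B e
    obtain ⟨z, hz, hzB⟩ := (QuotientGroup.mk'_eq_mk' _).1 e
    obtain ⟨c, -, hc⟩ := CoverThreeFour.center_scalar hz
    refine ⟨c, fun i j => ?_⟩
    rw [← hzB, hm, hc, mul_smul_comm, mul_one, Matrix.smul_apply, smul_eq_mul]
  have hX2 : (X * X).1 = !![1, 0, 1; 0, 1, 0; 0, 0, 1] := by
    rw [hm, hX]
    ext i j
    fin_cases i <;> fin_cases j <;>
      simp [Matrix.mul_apply, Fin.sum_univ_three, CharTwo.add_self_eq_zero]
  have hX4 : X * X * (X * X) = 1 := by
    apply Subtype.ext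
    rw [hm, hX2]
    ext i j
    fin_cases i <;> fin_cases j <;>
      simp [Matrix.mul_apply, Fin.sum_univ_three, CharTwo.add_self_eq_zero]
  have hKK : K⁻¹ = K := by
    refine inv_eq_of_mul_eq_one_right (Subtype.ext ?_)
    rw [hm, hK]
    ext i j
    fin_cases i <;> fin_cases j <;>
      simp [Matrix.mul_apply, Fin.sum_univ_three, CharTwo.add_self_eq_zero]
  have hKX : (K * X * K⁻¹).1 = !![1, 1, w; 0, 1, 1; 0, 0, 1] := by
    rw [hKK, hm, hm, hK, hX]
    ext i j
    fin_cases i <;> fin_cases j <;>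
      simp [Matrix.mul_apply, Fin.sum_univ_three] <;>
      linear_combination w * (CharTwo.two_eq_zero (R := F))
  have ht : orderOf (π (X * X)) = 2 := by
    refine order_two_of_sq (by rw [← map_mul, hX4, map_one]) fun e => ?_
    obtain ⟨c, hc⟩ := hscal 1 (X * X) (by rw [map_one, e])
    have := hc 0 2
    rw [hX2] at this
    simp at this
  have hk : π K ∈ Cz (π (X * X)) := by
    rw [mem_Cz, ← map_mul, ← map_mul]
    refine congrArg π (Subtype.ext ?_)
    rw [hm, hm _ K, hX2, hK]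
    ext i j
    fin_cases i <;> fin_cases j <;> simp [Matrix.mul_apply, Fin.sum_univ_three]
  obtain ⟨i, hi⟩ := conj_mem h (x := π X) ht
    (by rw [map_mul]; exact mul_mem (Subgroup.mem_zpowers _) (Subgroup.mem_zpowers _)) hk
  rw [← map_inv, ← map_mul, ← map_mul] at hi
  have h4 : π X ^ (4 : ℤ) = 1 := by
    rw [show (4 : ℤ) = ((4 : ℕ) : ℤ) by norm_num, zpow_natCast, ← map_pow,
      show X ^ 4 = X * X * (X * X) by rw [pow_succ, pow_succ, pow_two, mul_assoc], hX4, map_one]
  obtain ⟨r, hr, hir⟩ : ∃ r : ℕ, r < 4 ∧ π X ^ i = π (X ^ r) := by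
    refine ⟨(i % 4).toNat, by omega, ?_⟩
    rw [map_pow, ← zpow_natCast, Int.toNat_of_nonneg (Int.emod_nonneg _ (by norm_num))]
    conv_lhs => rw [← Int.emod_add_mul_ediv i 4, zpow_add, zpow_mul, h4, one_zpow, mul_one]
  obtain ⟨c, hc⟩ := hscal _ _ ((show π X ^ i = _ from hi).symm.trans hir)
  have c00 := hc 0 0
  have c01 := hc 0 1
  have c02 := hc 0 2
  rw [hKX] at c00 c01 c02
  interval_cases r
  · rw [pow_zero] at c00 c01
    simp at c00 c01
    exact zero_ne_one (c01.trans c00.symm)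
  · rw [pow_one, hX] at c00 c02
    simp at c00 c02
    rcases c02 with e | e
    · exact one_ne_zero (c00.trans e)
    · exact hw0 e
  · rw [pow_two, hX2] at c00 c01
    simp at c00 c01
    exact zero_ne_one (c01.trans c00.symm)
  · rw [pow_succ, pow_two, hm, hX2, hX] at c00 c02
    simp [Matrix.mul_apply, Fin.sum_univ_three] at c00 c02
    rw [← c00, one_mul] at c02
    exact hw1 c02.symm

/-- The simple groups with the hypothesis are two-dimensional projective special linear groups. -/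
theorem simple_psl [IsSimpleGroup G] (hna : ¬ IsMulCommutative G) (h : NC G) :
    ∃ (F : Type) (_ : Field F) (_ : Fintype F), 3 < Fintype.card F ∧
      Nonempty (G ≃* Matrix.ProjectiveSpecialLinearGroup (Fin 2) F) := by
  have hns : ¬ Group.IsSolvable G := fun hs =>
    hna ⟨⟨IsSimpleGroup.comm_iff_isSolvable.2 hs⟩⟩
  have key : ∀ (F : Type) [Field F] [Fintype F],
      Nonempty (G ≃* Matrix.ProjectiveSpecialLinearGroup (Fin 2) F) → 3 < Fintype.card F := by
    intro F _ _ ⟨e⟩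
    exact three_lt_card fun hs => hns
      (Group.isSolvable_of_isSolvable_injective (f := e.toMonoidHom) e.injective)
  rcases psl_or_cit hna h with hc | ⟨F, i1, i2, -, he⟩
  · have hna' : ∃ a b : G, a * b ≠ b * a := by
      by_contra hcon
      push Not at hcon
      exact hna ⟨⟨hcon⟩⟩
    rcases CNSimple.cit_simple hna' hc with ⟨K, hK⟩ | ⟨F, i1, i2, -, he⟩ | ⟨F, i1, i2, hF, ⟨e⟩⟩
    · obtain ⟨F, i1, i2, n, -, he⟩ := hK.psl_of_comm (ti_comm h hc hK)
      exact ⟨F, i1, i2, key F he, he⟩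
    · exact ⟨F, i1, i2, key F he, he⟩
    · exact (not_l34 hF (h.comap e.symm.toMonoidHom e.symm.injective)).elim
  · exact ⟨F, i1, i2, key F he, he⟩

end Cfsg.Agent.NormCyc
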