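import Cfsg.Agent.Lib.NormCyclic.Basic
import Cfsg.Agent.Lib.Solvable.Structure

/-!
An involution together with an element of odd prime order centralising it.
-/

set_option autoImplicit false
set_option linter.style.haveILetI false
set_option linter.unusedSectionVars false

namespace Cfsg.Agent.NormCyc

open Cfsg.Agent.Invol Cfsg.Agent.BSW

universe u

variable {G : Type u} [Group G] [Finite G]

/-- An involution and an element of odd prime order centralising it. -/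
structure Pair (t a : G) : Prop where
  ht : orderOf t = 2
  comm : Commute a t
  prime : (orderOf a).Prime
  ne_two : orderOf a ≠ 2

theorem exists_prime_zpowers {b : G} (hb : Odd (orderOf b)) (hb1 : b ≠ 1) :
    ∃ c ∈ Subgroup.zpowers b, (orderOf c).Prime ∧ orderOf c ≠ 2 := by
  obtain ⟨r, hr, hrd⟩ := Nat.exists_prime_and_dvd (mt orderOf_eq_one_iff.1 hb1)
  haveI := Fact.mk hr
  obtain ⟨⟨c, hc⟩, hco⟩ := exists_prime_orderOf_dvd_card' (G := Subgroup.zpowers b) r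
    (by rwa [Nat.card_zpowers])
  rw [Subgroup.orderOf_mk] at hco
  refine ⟨c, hc, hco ▸ hr, fun e => ?_⟩
  have := odd_of_zpowers hb hc
  rw [e] at this
  exact absurd this (by decide)

theorem exists_pair {t : G} (ht : orderOf t = 2) (h : ¬ IsPGroup 2 (Cz t)) :
    ∃ a, Pair t a := by
  obtain ⟨y, hy, hy1, hodd⟩ := CNSimple.not_isPGroup_exists_odd h
  obtain ⟨c, hc, hp, h2⟩ := exists_prime_zpowers hodd hy1
  exact ⟨c, ht, mem_Cz.1 (Subgroup.zpowers_le.2 hy hc), hp, h2⟩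

/-- Sylow maximality inside a subgroup. -/
theorem eq_of_odd_relIndex {P Q H : Subgroup G} (hQ : IsPGroup 2 Q) (hPQ : P ≤ Q) (hQH : Q ≤ H)
    (hodd : ¬ 2 ∣ P.relIndex H) : Q = P := by
  haveI : Fact (Nat.Prime 2) := ⟨Nat.prime_two⟩
  obtain ⟨j, hj⟩ := IsPGroup.iff_card.1 hQ
  have h1 : P.relIndex Q ∣ 2 ^ j := hj ▸ Dvd.intro_left _ (PBasic.card_mul_relIndex hPQ)
  have h2 : P.relIndex Q ∣ P.relIndex H :=
    Dvd.intro _ (Subgroup.relIndex_mul_relIndex P Q H hPQ hQH)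
  obtain ⟨i, -, hi⟩ := (Nat.dvd_prime_pow Nat.prime_two).1 h1
  rcases i with _ | i
  · exact le_antisymm (Subgroup.relIndex_eq_one.1 hi) hPQ
  · exact absurd ((hi ▸ dvd_pow_self 2 i.succ_ne_zero).trans h2) hodd

/-- A Sylow subgroup meeting a given subgroup in a Sylow subgroup of it. -/
theorem exists_sylow (H : Subgroup G) :
    ∃ T : Sylow 2 G, ¬ 2 ∣ ((T : Subgroup G) ⊓ H).relIndex H := by
  haveI : Fact (Nat.Prime 2) := ⟨Nat.prime_two⟩
  obtain ⟨P⟩ : Nonempty (Sylow 2 H) := inferInstance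
  obtain ⟨T, hT⟩ := (P.isPGroup'.map H.subtype).exists_le_sylow
  refine ⟨T, fun hd => P.not_dvd_index ?_⟩
  refine hd.trans ?_
  rw [Subgroup.relIndex]
  refine Subgroup.index_dvd_of_le ?_
  intro x hx
  exact ⟨hT ⟨x, hx, rfl⟩, x.2⟩

/-- A Sylow subgroup of `G` inside a subgroup in which its intersection is Sylow. -/
theorem exists_normalizer_step {T : Sylow 2 G} {H : Subgroup G} (hnot : ¬ (T : Subgroup G) ≤ H) :
    ∃ g ∈ (T : Subgroup G), g ∉ H ∧ ∀ x ∈ (T : Subgroup G) ⊓ H, g * x * g⁻¹ ∈ (T : Subgroup G) ⊓ H := by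
  haveI : Fact (Nat.Prime 2) := ⟨Nat.prime_two⟩
  haveI := T.isPGroup'.isNilpotent
  set D := ((T : Subgroup G) ⊓ H).subgroupOf (T : Subgroup G) with hD
  have hlt : D < ⊤ := lt_top_iff_ne_top.2 fun e => hnot fun x hx =>
    (Subgroup.mem_subgroupOf.1 (show (⟨x, hx⟩ : (T : Subgroup G)) ∈ D by rw [e]; trivial)).2
  obtain ⟨g, hgN, hgD⟩ := SetLike.exists_of_lt (normalizerCondition_of_isNilpotent D hlt)
  refine ⟨g, g.2, fun hgH => hgD (Subgroup.mem_subgroupOf.2 ⟨g.2, hgH⟩), fun x hx => ?_⟩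
  exact Subgroup.mem_subgroupOf.1
    ((Subgroup.mem_normalizer_iff.1 hgN ⟨x, hx.1⟩).1 (Subgroup.mem_subgroupOf.2 hx))

theorem false_of_inZStar [IsSimpleGroup G] (hna : ¬ IsMulCommutative G) {u : G}
    (hu : orderOf u = 2) (hz : Cfsg.InZStar 2 u) : False := by
  haveI : Fact (Nat.Prime 2) := ⟨Nat.prime_two⟩
  haveI hn : (Cfsg.pPrimeCore 2 G).Normal := FittingCores.pPrimeCore_normal 2
  have hbot : Cfsg.pPrimeCore 2 G = ⊥ := by
    rcases IsSimpleGroup.eq_bot_or_eq_top_of_normal _ hn with e | e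
    · exact e
    · exfalso
      have hco := PBasic.pPrimeCore_coprime 2 G
      rw [e, Subgroup.card_top] at hco
      have h2 : 2 ∣ Nat.card G := hu ▸ orderOf_dvd_natCard u
      exact absurd (Nat.Coprime.coprime_dvd_left h2 hco) (by decide)
  have hc : u ∈ Subgroup.center G := Subgroup.mem_center_iff.2 fun g => by
    have := hz g
    rw [hbot, Subgroup.mem_bot, mul_inv_eq_one] at this
    exact mul_inv_eq_iff_eq_mul.1 this
  rcases IsSimpleGroup.eq_bot_or_eq_top_of_normal (Subgroup.center G) inferInstance with e | e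
  · rw [e, Subgroup.mem_bot] at hc
    exact ne_one hu hc
  · exact hna ⟨⟨fun x y => (Subgroup.mem_center_iff.1 (e ▸ Subgroup.mem_top x) y).symm⟩⟩

namespace Pair

variable {t a : G} (hp : Pair t a)
include hp

theorem odd : Odd (orderOf a) := hp.prime.odd_of_ne_two hp.ne_two

theorem a_ne : a ≠ 1 := fun e => hp.prime.ne_one (by rw [e, orderOf_one])

theorem mem_Cza : t ∈ Cz a := mem_Cz.2 hp.comm.symm.eq

theorem le (h : NC G) : Cz a ≤ Cz t := Cz_le_of_odd h hp.ht hp.comm hp.odd hp.a_ne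

theorem mem_zpowers_of {c : G} (hc : c ∈ Subgroup.zpowers a) (hc1 : c ≠ 1) :
    a ∈ Subgroup.zpowers c := by
  have e : Subgroup.zpowers c = Subgroup.zpowers a := by
    refine Subgroup.eq_of_le_of_card_ge (Subgroup.zpowers_le.2 hc) ?_
    rw [Nat.card_zpowers, Nat.card_zpowers]
    exact Nat.le_of_dvd (orderOf_pos c)
      (((Nat.dvd_prime hp.prime).1 (orderOf_dvd_of_mem_zpowers hc)).resolve_left
        (mt orderOf_eq_one_iff.1 hc1) ▸ dvd_rfl)
  rw [e]
  exact Subgroup.mem_zpowers a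

/-- An element of the centraliser of `t` normalising a cyclic subgroup normalised by `a` either
contains `a` in that subgroup or centralises `a`. -/
theorem comm_of_normal (h : NC G) {x : G} (hx : x ∈ Cz t)
    (hax : a * x * a⁻¹ ∈ Subgroup.zpowers x) : x ∈ Cz a := by
  have h1 : a * x * a⁻¹ * x⁻¹ ∈ Subgroup.zpowers x :=
    mul_mem hax (inv_mem (Subgroup.mem_zpowers x))
  have h2 : a * x * a⁻¹ * x⁻¹ ∈ Subgroup.zpowers a := by
    rw [show a * x * a⁻¹ * x⁻¹ = a * (x * a * x⁻¹)⁻¹ by group]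
    exact mul_mem (Subgroup.mem_zpowers a) (inv_mem (conj_mem_odd h hp.ht hp.comm hp.odd hx))
  rw [mem_Cz]
  by_cases hc : a * x * a⁻¹ * x⁻¹ = 1
  · exact (mul_inv_eq_iff_eq_mul.1 (mul_inv_eq_one.1 hc)).symm
  · obtain ⟨i, rfl⟩ := Subgroup.zpowers_le.2 h1 (hp.mem_zpowers_of h2 hc)
    exact (Commute.refl x).zpow_right i |>.eq

theorem conj_Cza (h : NC G) {g k : G} (hg : g ∈ Cz t) (hk : k ∈ Cz a) : g * k * g⁻¹ ∈ Cz a := by
  obtain ⟨i, hi⟩ := conj_mem_odd h hp.ht hp.comm hp.odd (inv_mem hg)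
  have hka : Commute k (g⁻¹ * a * g⁻¹⁻¹) := by
    rw [← hi]; exact Commute.zpow_right (mem_Cz.1 hk) i
  rw [mem_Cz]
  have e : Commute (g * k * g⁻¹) (g * (g⁻¹ * a * g⁻¹⁻¹) * g⁻¹) := hka.map (MulAut.conj g).toMonoidHom
  rwa [show g * (g⁻¹ * a * g⁻¹⁻¹) * g⁻¹ = a by group] at e

/-- The elements of odd order centralising `t` centralise `a`. -/
theorem odd_mem (h : NC G) {b : G} (hb : b ∈ Cz t) (hbo : Odd (orderOf b)) : b ∈ Cz a :=
  hp.comm_of_normal h hb
    (conj_mem_odd h hp.ht (mem_Cz.1 hb) hbo (mem_Cz.2 hp.comm.eq))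

/-- An involution centralising `a` shares the centraliser of `t`. -/
theorem Cz_eq_of_mem (h : NC G) {u : G} (hu : orderOf u = 2) (hua : u ∈ Cz a) : Cz u = Cz t :=
  Cz_eq h hu hp.ht (mem_Cz.1 hua : Commute u a).symm hp.comm hp.odd hp.a_ne

/-- A cyclic group containing an involution which centralises `a` centralises `a`. -/
theorem mem_of_invol (h : NC G) {x v : G} (hv : orderOf v = 2) (hvx : v ∈ Subgroup.zpowers x)
    (hva : v ∈ Cz a) : x ∈ Cz a := by
  have hx : x ∈ Cz t := by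
    rw [← hp.Cz_eq_of_mem h hv hva, mem_Cz]
    obtain ⟨i, rfl⟩ := hvx
    exact ((Commute.refl x).zpow_right i).eq
  exact hp.comm_of_normal h hx (conj_mem h hv hvx (mem_Cz_symm.1 hva))

/-- The homomorphism giving the action on `a`. -/
noncomputable def act (h : NC G) : Cz t →* MulAut (Subgroup.zpowers a) :=
  (Subgroup.zpowers a).normalizerMonoidHom.comp
    (Subgroup.inclusion (norm_odd h hp.ht hp.comm hp.odd hp.a_ne).ge)

theorem act_eq_one (h : NC G) (g : Cz t) : hp.act h g = 1 ↔ (g : G) ∈ Cz a := by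
  rw [act, MonoidHom.comp_apply, ← MonoidHom.mem_ker, Subgroup.normalizerMonoidHom_ker,
    Subgroup.mem_subgroupOf, Subgroup.coe_inclusion, Subgroup.mem_centralizer_iff]
  refine ⟨fun hh => mem_Cz.2 (hh a (Subgroup.mem_zpowers a)).symm, fun hh b hb => ?_⟩
  obtain ⟨i, rfl⟩ := hb
  exact (Commute.zpow_right (mem_Cz.1 hh : Commute (g : G) a) i).eq.symm

/-- The order of the group induced on `a`. -/
noncomputable def d (h : NC G) : ℕ := Nat.card (hp.act h).range

theorem exists_gen (h : NC G) : ∃ x ∈ Cz t, (∃ k, orderOf x = 2 ^ k) ∧ orderOf x = hp.d h ∧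
    (∀ y ∈ Cz t, ∃ i : ℤ, (x ^ i)⁻¹ * y ∈ Cz a) ∧
    ∀ w ∈ Subgroup.zpowers x, w ∈ Cz a → w = 1 := by
  haveI : Fact (Nat.Prime 2) := ⟨Nat.prime_two⟩
  haveI : Fact (orderOf a).Prime := ⟨hp.prime⟩
  haveI : IsCyclic (Subgroup.zpowers a) := Subgroup.isCyclic_zpowers a
  haveI : IsCyclic (ZMod (Nat.card (Subgroup.zpowers a)))ˣ := by
    rw [Nat.card_zpowers]; infer_instance
  haveI : IsCyclic (MulAut (Subgroup.zpowers a)) :=
    isCyclic_of_surjective (IsCyclic.mulAutMulEquiv _).symm.toMonoidHom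
      (IsCyclic.mulAutMulEquiv _).symm.surjective
  obtain ⟨⟨c, g, rfl⟩, hgen⟩ := IsCyclic.exists_generator (α := (hp.act h).range)
  obtain ⟨u₀, v, huv, hu, -, hk₀, hv⟩ := PBasic.exists_pPart_mul (p := 2) (g : G)
  have huC₀ : u₀ ∈ Cz t := Subgroup.zpowers_le.2 g.2 hu
  have hvC : v ∈ Cz t := by
    rw [show v = u₀⁻¹ * (g : G) by rw [← huv, inv_mul_cancel_left]]
    exact mul_mem (inv_mem huC₀) g.2
  have hva : hp.act h ⟨v, hvC⟩ = 1 :=
    (hp.act_eq_one h _).2 (hp.odd_mem h hvC (Nat.coprime_two_right.1 hv))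
  have hga₀ : hp.act h g = hp.act h ⟨u₀, huC₀⟩ := by
    rw [show g = ⟨u₀, huC₀⟩ * ⟨v, hvC⟩ from Subtype.ext huv.symm, map_mul, hva, mul_one]
  obtain ⟨u, huC, hk, hga, hu1⟩ : ∃ u, ∃ huC : u ∈ Cz t, (∃ k, orderOf u = 2 ^ k) ∧
      hp.act h g = hp.act h ⟨u, huC⟩ ∧ (u ∈ Cz a → u = 1) := by
    by_cases hu0 : u₀ ∈ Cz a
    · refine ⟨1, one_mem _, ⟨0, orderOf_one⟩, ?_, fun _ => rfl⟩
      rw [hga₀, (hp.act_eq_one h _).2 hu0, show (⟨1, one_mem _⟩ : Cz t) = 1 from rfl, map_one]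
    · exact ⟨u₀, huC₀, hk₀, hga₀, fun e => absurd e hu0⟩
  have hall : ∀ y : Cz t, ∃ i : ℤ, hp.act h (⟨u, huC⟩ ^ i) = hp.act h y := by
    intro y
    obtain ⟨i, hi⟩ := hgen ⟨_, y, rfl⟩
    refine ⟨i, ?_⟩
    have := congrArg Subtype.val hi
    rw [Subgroup.coe_zpow] at this
    rw [map_zpow, ← hga]
    exact this
  have hfree : ∀ w ∈ Subgroup.zpowers u, w ∈ Cz a → w = 1 := by
    intro w hw hwa
    by_contra hw1
    have hw2 : ∃ k, orderOf w = 2 ^ k := by
      obtain ⟨k, hk⟩ := hk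
      obtain ⟨j, -, hj⟩ := (Nat.dvd_prime_pow Nat.prime_two).1 (hk ▸ orderOf_dvd_of_mem_zpowers hw)
      exact ⟨j, hj⟩
    obtain ⟨z, hz, hzw⟩ := exists_invol_zpowers (even_of_two_power hw2 hw1)
    have huu := hp.mem_of_invol h hz (Subgroup.zpowers_le.2 hw hzw)
      (Subgroup.zpowers_le.2 hwa hzw)
    rw [hu1 huu, Subgroup.zpowers_one_eq_bot, Subgroup.mem_bot] at hw
    exact hw1 hw
  refine ⟨u, huC, hk, ?_, fun y hy => ?_, hfree⟩
  · have e : hp.act h '' (Subgroup.zpowers (⟨u, huC⟩ : Cz t) : Set (Cz t)) =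
        ((hp.act h).range : Set (MulAut (Subgroup.zpowers a))) := by
      ext m
      constructor
      · rintro ⟨y, -, rfl⟩; exact ⟨y, rfl⟩
      · rintro ⟨y, rfl⟩
        obtain ⟨i, hi⟩ := hall y
        exact ⟨_, zpow_mem (Subgroup.mem_zpowers _) i, hi⟩
    rw [d, ← SetLike.coe_sort_coe, ← e, Nat.card_image_of_injOn, SetLike.coe_sort_coe,
      Nat.card_zpowers, Subgroup.orderOf_mk]
    intro y hy z hz e'
    refine inv_mul_eq_one.1 (Subtype.ext (hfree _ ?_ ((hp.act_eq_one h _).1 ?_)))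
    · have := mul_mem (inv_mem hy) hz
      obtain ⟨i, hi⟩ := this
      exact ⟨i, by rw [← hi]; rfl⟩
    · rw [map_mul, map_inv, e', inv_mul_cancel]
  · obtain ⟨i, hi⟩ := hall ⟨y, hy⟩
    refine ⟨i, (hp.act_eq_one h ((⟨u, huC⟩ ^ i)⁻¹ * ⟨y, hy⟩)).1 ?_⟩
    rw [map_mul, map_inv, hi, inv_mul_cancel]

/-- The action has `d` values on a Sylow subgroup. -/
theorem card_eq (h : NC G) {P : Subgroup G} (hPC : P ≤ Cz t) (hodd : ¬ 2 ∣ P.relIndex (Cz t)) :
    Nat.card P = Nat.card (P ⊓ Cz a : Subgroup G) * hp.d h := by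
  haveI : Fact (Nat.Prime 2) := ⟨Nat.prime_two⟩
  obtain ⟨x, -, ⟨k, hk⟩, hxd, -, -⟩ := hp.exists_gen h
  set ψ : P →* MulAut (Subgroup.zpowers a) := (hp.act h).comp (Subgroup.inclusion hPC) with hψ
  have hker : ψ.ker = (P ⊓ Cz a).subgroupOf P := by
    ext y
    rw [MonoidHom.mem_ker, hψ, MonoidHom.comp_apply, hp.act_eq_one h, Subgroup.mem_subgroupOf]
    exact ⟨fun hy => ⟨y.2, hy⟩, fun hy => hy.2⟩
  have hrange : ψ.range = (P.subgroupOf (Cz t)).map (hp.act h) := by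
    rw [hψ, MonoidHom.range_comp, Subgroup.inclusion_range]
  have heq : (P.subgroupOf (Cz t)).map (hp.act h) = (hp.act h).range := by
    have hle : (P.subgroupOf (Cz t)).map (hp.act h) ≤ (hp.act h).range := Subgroup.map_le_range _ _
    refine le_antisymm hle ?_
    have h1 : ((P.subgroupOf (Cz t)).map (hp.act h)).relIndex (hp.act h).range ∣ 2 ^ k := by
      rw [← hk, hxd, d]
      exact Dvd.intro_left _ (PBasic.card_mul_relIndex hle)
    have h2 : ((P.subgroupOf (Cz t)).map (hp.act h)).relIndex (hp.act h).range ∣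
        P.relIndex (Cz t) := by
      rw [MonoidHom.range_eq_map, Subgroup.relIndex_map_map, top_sup_eq, Subgroup.relIndex_top_right,
        Subgroup.relIndex]
      exact Subgroup.index_dvd_of_le le_sup_left
    obtain ⟨i, -, hi⟩ := (Nat.dvd_prime_pow Nat.prime_two).1 h1
    rcases i with _ | i
    · exact Subgroup.relIndex_eq_one.1 hi
    · exact absurd ((hi ▸ dvd_pow_self 2 i.succ_ne_zero).trans h2) hodd
  rw [d, ← heq, ← hrange, ← Subgroup.index_ker, hker,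
    ← Nat.card_congr (Subgroup.subgroupOfEquivOfLe (inf_le_left : P ⊓ Cz a ≤ P)).toEquiv,
    Subgroup.card_mul_index]

end Pair

end Cfsg.Agent.NormCyc
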