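import Cfsg.Agent.Lib.NormCyclic.AutField
import Cfsg.Agent.Lib.NormCyclic.CIT
import Cfsg.Agent.Lib.Recog.CharSimple
import Cfsg.Agent.S0494
import Cfsg.Agent.Lib.Classical.DicksonSolvable

/-!
Semisimple groups in which cyclic subgroups of even order share the normalisers of their subgroups.
-/

set_option autoImplicit false
set_option linter.style.haveILetI false
set_option linter.unusedSectionVars false

namespace Cfsg.Agent.NormCyc

open Matrix Cfsg.Agent.Invol Cfsg.Agent.BSW

universe u

variable {G : Type u} [Group G] [Finite G]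

/-- A subgroup commuting with an involution is soluble. -/
theorem solvable_of_comm (h : NC G) {N : Subgroup G} {s : G} (hs : orderOf s = 2)
    (hN : N ≤ Cz s) : Group.IsSolvable N := by
  haveI := solvable_Cz h hs
  exact Group.isSolvable_of_isSolvable_injective (f := Subgroup.inclusion hN)
    (Subgroup.inclusion_injective hN)

theorem exists_invol_of_not_solvable {H : Type*} [Group H] [Finite H]
    (hns : ¬ Group.IsSolvable H) : ∃ x : H, orderOf x = 2 := by
  haveI : Fact (Nat.Prime 2) := ⟨Nat.prime_two⟩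
  refine exists_prime_orderOf_dvd_card' 2 (by_contra fun h2 => hns ?_)
  exact OddChar.oddSolvable H (Nat.odd_iff.2 (Nat.two_dvd_ne_zero.1 h2))

/-- The socle is simple. -/
theorem exists_simple_socle [Nontrivial G] (hss : ∀ N : Subgroup G, N.Normal → Group.IsSolvable N → N = ⊥)
    (h : NC G) : ∃ N : Subgroup G, N.Normal ∧ IsSimpleGroup N ∧ ¬ Group.IsSolvable N ∧
      Subgroup.centralizer (N : Set G) = ⊥ := by
  obtain ⟨N, -, ⟨hNn, hNb⟩, hNmin⟩ := Finite.exists_le_minimal
    (p := fun N : Subgroup G => N.Normal ∧ N ≠ ⊥) (a := ⊤) ⟨inferInstance, top_ne_bot⟩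
  haveI := hNn
  have hns : ¬ Group.IsSolvable N := fun hs => hNb (hss N hNn hs)
  have hC : Subgroup.centralizer (N : Set G) = ⊥ := by
    by_contra hne
    have hns' : ¬ Group.IsSolvable (Subgroup.centralizer (N : Set G)) := fun hs =>
      hne (hss _ inferInstance hs)
    obtain ⟨⟨s, hsC⟩, hs⟩ := exists_invol_of_not_solvable hns'
    rw [Subgroup.orderOf_mk] at hs
    exact hns (solvable_of_comm h hs fun n hn =>
      mem_Cz.2 (Subgroup.mem_centralizer_iff.1 hsC n hn))
  refine ⟨N, hNn, ?_, hns, hC⟩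
  obtain ⟨T, _, m, hT, hm, ⟨e⟩⟩ := CharSimple.minimalNormal_iso_pi N hNb fun M hM hMN => by
    by_cases hMb : M = ⊥
    · exact Or.inl hMb
    · exact Or.inr (le_antisymm hMN (hNmin ⟨hM, hMb⟩ hMN))
  haveI := hT
  rcases Nat.lt_or_ge m 2 with h1 | h2
  · obtain rfl : m = 1 := by omega
    let f : N ≃* T := e.trans (MulEquiv.funUnique (Fin 1) T)
    haveI : Nontrivial N := f.toEquiv.nontrivial
    exact IsSimpleGroup.isSimpleGroup_of_surjective f.symm.toMonoidHom f.symm.surjective
  exfalso
  have hTns : ¬ Group.IsSolvable T := fun hs => hns (Group.isSolvable_of_comm fun a b =>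
    e.injective (by
      rw [map_mul, map_mul]
      exact funext fun k => IsSimpleGroup.comm_iff_isSolvable.2 hs _ _))
  haveI : Finite T := Finite.of_surjective (fun n : N => e n ⟨0, hm⟩) fun t =>
    ⟨e.symm fun _ => t, by simp⟩
  obtain ⟨τ, hτ⟩ := exists_invol_of_not_solvable hTns
  set i : Fin m := ⟨0, hm⟩
  set j : Fin m := ⟨1, h2⟩
  have hij : i ≠ j := by simp [i, j, Fin.ext_iff]
  have hso : orderOf (e.symm (Pi.mulSingle i τ)) = 2 := by
    rw [e.symm.orderOf_eq]
    exact (orderOf_injective (MonoidHom.mulSingle (fun _ : Fin m => T) i)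
      (fun a b hab => by simpa using congrFun hab i) τ).trans hτ
  let f : T →* N := e.symm.toMonoidHom.comp (MonoidHom.mulSingle (fun _ : Fin m => T) j)
  have hf : Function.Injective f := fun a b hab => by
    simpa using congrFun (e.symm.injective hab : (Pi.mulSingle j a : Fin m → T) = Pi.mulSingle j b) j
  have hle : f.range ≤ Cz (e.symm (Pi.mulSingle i τ)) := by
    rintro _ ⟨t, rfl⟩
    rw [mem_Cz]
    show e.symm (Pi.mulSingle j t) * _ = _ * e.symm (Pi.mulSingle j t)
    rw [← map_mul, ← map_mul]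
    refine congrArg e.symm (funext fun k => ?_)
    rcases eq_or_ne k i with rfl | hk
    · simp [Pi.mulSingle_eq_of_ne hij]
    · simp [Pi.mulSingle_eq_of_ne hk]
  haveI := solvable_of_comm (h.comap N.subtype N.subtype_injective) hso hle
  exact hTns (Group.isSolvable_of_isSolvable_injective (f := (MonoidHom.ofInjective hf).toMonoidHom)
    (MonoidHom.ofInjective hf).injective)

theorem card_psl_two_eq_sixty {F : Type} [Field F] [Fintype F]
    (hF : Fintype.card F = 4 ∨ Fintype.card F = 5) :
    Nat.card (Matrix.ProjectiveSpecialLinearGroup (Fin 2) F) = 60 := by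
  have hg := Dickson.gcd_mul_card_psl (K := F)
  rw [Nat.card_eq_fintype_card (α := F)] at hg
  rcases hF with e | e <;> rw [e] at hg <;> norm_num at hg ⊢ <;> omega

/-- The field may be assumed not to have four elements. -/
theorem exists_field {S : Type u} [Group S] [Finite S] [IsSimpleGroup S] {F : Type} [Field F]
    [Fintype F] (h3 : 3 < Fintype.card F) (e : S ≃* Matrix.ProjectiveSpecialLinearGroup (Fin 2) F) :
    ∃ (E : Type) (_ : Field E) (_ : Fintype E), 5 ≤ Fintype.card E ∧
      Nonempty (S ≃* Matrix.ProjectiveSpecialLinearGroup (Fin 2) E) := by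
  by_cases h4 : Fintype.card F = 4
  swap
  · exact ⟨F, inferInstance, inferInstance, by omega, ⟨e⟩⟩
  haveI : Fact (Nat.Prime 5) := ⟨by norm_num⟩
  refine ⟨ZMod 5, inferInstance, inferInstance, by rw [ZMod.card], ?_⟩
  haveI : IsSimpleGroup (Matrix.ProjectiveSpecialLinearGroup (Fin 2) (ZMod 5)) :=
    Matrix.ProjectiveSpecialLinearGroup.rank_two_simple (by rw [Nat.card_zmod]; norm_num)
  obtain ⟨e₁⟩ := S0494.result (G := S)
    (by rw [Nat.card_congr e.toEquiv, card_psl_two_eq_sixty (Or.inl h4)])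
  obtain ⟨e₂⟩ := S0494.result (G := Matrix.ProjectiveSpecialLinearGroup (Fin 2) (ZMod 5))
    (card_psl_two_eq_sixty (Or.inr (ZMod.card 5)))
  exact ⟨e₁.trans e₂.symm⟩

open Cfsg.Agent.AutPSL in
/-- Groups between `PSL(2, q)` and its automorphism group. -/
theorem almost_psl {F : Type} [Field F] [Fintype F] (h5 : 5 ≤ Fintype.card F)
    (A : Subgroup (MulAut (Matrix.ProjectiveSpecialLinearGroup (Fin 2) F)))
    (hA : Cfsg.Inn (Matrix.ProjectiveSpecialLinearGroup (Fin 2) F) ≤ A) (h : NC A) :
    Nonempty (A ≃* Matrix.ProjectiveSpecialLinearGroup (Fin 2) F) ∨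
      Nonempty (A ≃* Matrix.ProjGenLinGroup (Fin 2) F) := by
  haveI : IsSimpleGroup (Matrix.ProjectiveSpecialLinearGroup (Fin 2) F) :=
    Matrix.ProjectiveSpecialLinearGroup.rank_two_simple (by rw [Nat.card_eq_fintype_card]; omega)
  have hsub : ∀ β ∈ A, ∃ g : GL (Fin 2) F, β = semi g 1 := fun β hβ =>
    mem_inndiag.1 ((GW.mem_inndiag_iff_fld β).2 (AutField.fld_trivial h hA h5 hβ))
  by_cases hle : A ≤ Cfsg.Inn (Matrix.ProjectiveSpecialLinearGroup (Fin 2) F)
  · left
    have hinj : Function.Injective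
        (MulAut.conj : Matrix.ProjectiveSpecialLinearGroup (Fin 2) F →* _) := by
      refine (MonoidHom.ker_eq_bot_iff _).1 ((IsSimpleGroup.eq_bot_or_eq_top_of_normal _
        inferInstance).resolve_right fun htop => ?_)
      have hcomm : ∀ x y : Matrix.ProjectiveSpecialLinearGroup (Fin 2) F, x * y = y * x := by
        intro x y
        have hx : MulAut.conj x = 1 := (MonoidHom.mem_ker).1 (htop ▸ Subgroup.mem_top x)
        exact mul_inv_eq_iff_eq_mul.1 (DFunLike.congr_fun hx y :)
      exact Dickson.not_isSolvable_psl (F := F) (by rw [Nat.card_eq_fintype_card]; omega)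
        (Group.isSolvable_of_comm hcomm)
    exact ⟨((MonoidHom.ofInjective hinj).trans
      (MulEquiv.subgroupCongr (show MulAut.conj.range = A from le_antisymm hA hle))).symm⟩
  right
  obtain ⟨β, hβA, hβ⟩ := SetLike.not_le_iff_exists.1 hle
  obtain ⟨g₀, rfl⟩ := hsub β hβA
  have hg₀ : GeneralLinearGroup.det g₀ ∉ (powMonoidHom 2 : Fˣ →* Fˣ).range := fun hh =>
    hβ ((semi_mem_inn le_rfl g₀).2 hh)
  have hidx : ((powMonoidHom 2 : Fˣ →* Fˣ).range).index = 2 := by
    have hodd : Odd (Fintype.card F) := by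
      by_contra hev
      obtain ⟨y, hy⟩ := FiniteField.isSquare_of_char_two (F := F)
        (FiniteField.even_card_iff_char_two.2 (Nat.even_iff.1 (Nat.not_odd_iff_even.1 hev)))
        (GeneralLinearGroup.det g₀ : F)
      have hy0 : y ≠ 0 := fun e0 => (GeneralLinearGroup.det g₀).ne_zero (by rw [hy, e0, mul_zero])
      exact hg₀ ⟨Units.mk0 y hy0, Units.ext (by
        rw [powMonoidHom_apply, Units.val_pow_eq_pow_val, Units.val_mk0, hy, pow_two])⟩
    rw [Subgroup.index_eq_card, card_quotient_powMonoidHom rfl]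
    obtain ⟨k, hk⟩ := hodd
    rw [hk, Nat.add_sub_cancel]
    exact Nat.gcd_eq_left (dvd_mul_right 2 k)
  have hall : (AutPSL.conjHom : GL (Fin 2) F →* _).range = A := by
    refine le_antisymm ?_ fun β hβ' => ?_
    · rintro _ ⟨g, rfl⟩
      by_cases hg : GeneralLinearGroup.det g ∈ (powMonoidHom 2 : Fˣ →* Fˣ).range
      · exact hA ((semi_mem_inn le_rfl g).2 hg)
      have h1 : (semi (g * g₀⁻¹) 1 : MulAut _) ∈ A := hA ((semi_mem_inn le_rfl _).2 (by
        rw [map_mul, map_inv]
        exact (Subgroup.mul_mem_iff_of_index_two hidx).2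
          (iff_of_false hg fun hh => hg₀ (inv_mem_iff.1 hh))))
      have h2 := mul_mem h1 hβA
      rw [semi_mul', mapGL_one, mul_one, inv_mul_cancel_right] at h2
      exact h2
    · obtain ⟨g, rfl⟩ := hsub β hβ'
      exact ⟨g, rfl⟩
  let π : Matrix.ProjGenLinGroup (Fin 2) F →*
      MulAut (Matrix.ProjectiveSpecialLinearGroup (Fin 2) F) :=
    Matrix.ProjGenLinGroup.lift AutPSL.conjHom (by
      refine MonoidHom.ext fun u => ?_
      rw [MonoidHom.comp_apply, conjHom_apply, MonoidHom.one_apply]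
      exact (semi_eq_one_iff le_rfl).2 ⟨rfl, u, rfl⟩)
  have hπ : Function.Injective π := by
    rw [injective_iff_map_eq_one]
    intro x hx
    induction x using Matrix.ProjGenLinGroup.induction_on with
    | mk g =>
      rw [Matrix.ProjGenLinGroup.lift_mk, conjHom_apply] at hx
      obtain ⟨-, c, hc⟩ := (semi_eq_one_iff le_rfl).1 hx
      rw [hc, Matrix.ProjGenLinGroup.mk_scalar]
  have hr : π.range = A := by
    rw [← hall]
    ext β
    constructor
    · rintro ⟨x, rfl⟩
      induction x using Matrix.ProjGenLinGroup.induction_on with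
      | mk g => exact ⟨g, (Matrix.ProjGenLinGroup.lift_mk _ g).symm⟩
    · rintro ⟨g, rfl⟩
      exact ⟨Matrix.ProjGenLinGroup.mk g, Matrix.ProjGenLinGroup.lift_mk _ g⟩
  exact ⟨((MonoidHom.ofInjective hπ).trans (MulEquiv.subgroupCongr hr)).symm⟩

/-- The classification. -/
theorem main [Nontrivial G] (hss : ∀ N : Subgroup G, N.Normal → Group.IsSolvable N → N = ⊥)
    (h : NC G) : ∃ (F : Type) (_ : Field F) (_ : Fintype F), 3 < Fintype.card F ∧
      (Nonempty (G ≃* Matrix.ProjectiveSpecialLinearGroup (Fin 2) F) ∨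
        Nonempty (G ≃* Matrix.ProjGenLinGroup (Fin 2) F)) := by
  obtain ⟨N, hNn, hNs, hns, hC⟩ := exists_simple_socle hss h
  haveI := hNn
  haveI := hNs
  have hna : ¬ IsMulCommutative N := fun hc => hns (Group.isSolvable_of_comm fun a b => hc.1.1 a b)
  obtain ⟨F₀, _, _, h3, ⟨e₀⟩⟩ := simple_psl hna (h.comap N.subtype N.subtype_injective)
  obtain ⟨F, i1, i2, h5, ⟨e⟩⟩ := exists_field h3 e₀
  refine ⟨F, i1, i2, by omega, ?_⟩
  let φ : G →* MulAut (Matrix.ProjectiveSpecialLinearGroup (Fin 2) F) :=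
    (MulAut.congr e).toMonoidHom.comp MulAut.conjNormal
  have hφ : ∀ (g : G) (x : N), φ g (e x) = e (MulAut.conjNormal g x) := fun g x => by
    simp [φ, MulAut.congr]
  have hinj : Function.Injective φ := by
    refine (injective_iff_map_eq_one φ).2 fun g hg => ?_
    rw [← Subgroup.mem_bot, ← hC, Subgroup.mem_centralizer_iff]
    intro k hk
    have := hφ g ⟨k, hk⟩
    rw [hg, MulAut.one_apply, EmbeddingLike.apply_eq_iff_eq] at this
    have h' := congrArg Subtype.val this
    rw [MulAut.conjNormal_apply] at h'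
    exact eq_mul_inv_iff_mul_eq.1 h'
  have hInn : Cfsg.Inn (Matrix.ProjectiveSpecialLinearGroup (Fin 2) F) ≤ φ.range := by
    rintro _ ⟨x, rfl⟩
    obtain ⟨k, rfl⟩ := e.surjective x
    refine ⟨k, MulEquiv.ext fun y => ?_⟩
    obtain ⟨y, rfl⟩ := e.surjective y
    rw [hφ, MulAut.conj_apply, ← map_inv, ← map_mul, ← map_mul]
    exact congrArg e (Subtype.ext (MulAut.conjNormal_apply _ _))
  let eA : G ≃* φ.range := MonoidHom.ofInjective hinj
  have hA : NC φ.range := h.comap eA.symm.toMonoidHom eA.symm.injective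
  rcases almost_psl h5 φ.range hInn hA with h' | h'
  · exact Or.inl (h'.map eA.trans)
  · exact Or.inr (h'.map eA.trans)

end Cfsg.Agent.NormCyc
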