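import Cfsg.Agent.Lib.NormCyclic.Basic
import Cfsg.Agent.Lib.GW.FieldPart

/-!
Groups between `PSL(2, q)` and its automorphism group in which cyclic subgroups of even order share
the normalisers of their subgroups contain no field automorphisms.
-/

set_option autoImplicit false
set_option linter.style.haveILetI false
set_option linter.unusedSectionVars false

namespace Cfsg.Agent.NormCyc

open Matrix Cfsg.Agent.Invol Cfsg.Agent.BSW

section abstract

variable {M : Type*} [Group M] [Finite M] {A : Subgroup M} (h : NC A)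
include h

theorem false_of_outside {t a u : M} (ht : t ∈ A) (ha : a ∈ A) (hu : u ∈ A) (hto : orderOf t = 2)
    (hta : Commute a t) (hua : Commute u a) (hao : Odd (orderOf a)) (ha1 : a ≠ 1)
    (hne : u * t ≠ t * u) : False := by
  have e := Cz_le_of_odd (G := A) h (t := ⟨t, ht⟩) (a := ⟨a, ha⟩)
    (by rw [Subgroup.orderOf_mk, hto]) (Subtype.ext hta.eq) (by rwa [Subgroup.orderOf_mk])
    (fun e => ha1 (congrArg Subtype.val e)) (x := ⟨u, hu⟩) (mem_Cz.2 (Subtype.ext hua.eq))
  exact hne (congrArg Subtype.val (mem_Cz.1 e))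

theorem exists_pow_conj {t a k : M} (ht : t ∈ A) (ha : a ∈ A) (hk : k ∈ A) (hto : orderOf t = 2)
    (hta : Commute a t) (hkt : Commute k t) (hao : Odd (orderOf a)) :
    ∃ n : ℕ, k * a = a ^ n * k := by
  have e := conj_mem_odd (G := A) h (t := ⟨t, ht⟩) (a := ⟨a, ha⟩) (g := ⟨k, hk⟩)
    (by rw [Subgroup.orderOf_mk, hto]) (Subtype.ext hta.eq) (by rwa [Subgroup.orderOf_mk])
    (mem_Cz.2 (Subtype.ext hkt.eq))
  obtain ⟨n, hn⟩ := (mem_powers_iff_mem_zpowers.2 e)
  refine ⟨n, ?_⟩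
  have := congrArg Subtype.val hn
  simp only [SubmonoidClass.coe_pow, Subgroup.coe_mul, Subgroup.coe_inv] at this
  exact mul_inv_eq_iff_eq_mul.1 this.symm

theorem exists_pow_of_sq {φ w : M} (hφ : φ ∈ A) (hw : w ∈ A) (hev : Even (orderOf φ))
    (hne : φ ^ 2 ≠ 1) (hinv : w * φ ^ 2 * w⁻¹ = (φ ^ 2)⁻¹) :
    ∃ n : ℕ, w * φ * w⁻¹ = φ ^ n := by
  set x : A := ⟨φ, hφ⟩ with hx
  set g : A := ⟨w, hw⟩ with hg
  have e := h x (by rwa [hx, Subgroup.orderOf_mk]) (x ^ 2) (pow_mem (Subgroup.mem_zpowers x) 2)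
    fun e => hne (congrArg Subtype.val e)
  have hmem : g ∈ Subgroup.normalizer (Subgroup.zpowers (x ^ 2) : Set A) := by
    rw [Subgroup.mem_normalizer_iff_map_conj_eq]
    simp only [MonoidHom.map_zpowers, MonoidHom.coe_coe, MulEquiv.coe_toMonoidHom,
      MulAut.conj_apply]
    rw [show g * x ^ 2 * g⁻¹ = (x ^ 2)⁻¹ from Subtype.ext hinv, Subgroup.zpowers_inv]
  rw [← e] at hmem
  obtain ⟨n, hn⟩ := mem_powers_iff_mem_zpowers.2
    ((Subgroup.mem_normalizer_iff.1 hmem x).1 (Subgroup.mem_zpowers x))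
  exact ⟨n, (congrArg Subtype.val hn).symm⟩

end abstract

namespace AutField

open Cfsg.Agent.AutPSL

variable {F : Type} [Field F]

local notation "PSL2" => Matrix.ProjectiveSpecialLinearGroup (Fin 2) F
local notation "GL2" => GL (Fin 2) F
local notation "sq2" => MonoidHom.range (powMonoidHom 2 : Fˣ →* Fˣ)

/-- A diagonal matrix. -/
def dg (a b : Fˣ) : GL2 := diagGL ![a, b]

theorem dg_coe (a b : Fˣ) : (dg a b : Matrix (Fin 2) (Fin 2) F) = !![(a : F), 0; 0, (b : F)] := by
  rw [dg, diagGL_coe]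
  ext i j
  fin_cases i <;> fin_cases j <;> simp

theorem det_dg (a b : Fˣ) : GeneralLinearGroup.det (dg a b) = a * b := by
  rw [dg, det_diagGL, Fin.prod_univ_two]
  rfl

theorem dg_mul (a b c d : Fˣ) : dg a b * dg c d = (dg (a * c) (b * d) : GL2) := by
  refine Units.ext ?_
  rw [Units.val_mul, dg_coe, dg_coe, dg_coe]
  ext i j
  fin_cases i <;> fin_cases j <;> simp [Matrix.mul_apply, Fin.sum_univ_two]

theorem dg_one : (dg 1 1 : GL2) = 1 := by
  refine Units.ext ?_
  rw [dg_coe, Units.val_one, Units.val_one]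
  ext i j
  fin_cases i <;> fin_cases j <;> simp

theorem dg_pow (a b : Fˣ) : ∀ n : ℕ, (dg a b : GL2) ^ n = dg (a ^ n) (b ^ n)
  | 0 => by rw [pow_zero, pow_zero, pow_zero, dg_one]
  | n + 1 => by rw [pow_succ, dg_pow a b n, dg_mul, pow_succ, pow_succ]

/-- A ring automorphism on units. -/
def sU (σ : F ≃+* F) : Fˣ →* Fˣ := Units.map (σ : F →* F)

theorem sU_coe (σ : F ≃+* F) (a : Fˣ) : (sU σ a : F) = σ a := rfl

theorem mapGL_dg (σ : F ≃+* F) (a b : Fˣ) : mapGL σ (dg a b) = (dg (sU σ a) (sU σ b) : GL2) := by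
  refine Units.ext ?_
  rw [mapGL_coe, dg_coe, dg_coe]
  ext i j
  fin_cases i <;> fin_cases j <;> simp [sU_coe]

/-- The Weyl element. -/
noncomputable def W : GL2 :=
  GeneralLinearGroup.mkOfDetNeZero !![0, 1; -1, 0] (by simp [Matrix.det_fin_two])

theorem W_coe : ((W : GL2) : Matrix (Fin 2) (Fin 2) F) = !![0, 1; -1, 0] := rfl

/-- A transvection. -/
noncomputable def U : GL2 :=
  GeneralLinearGroup.mkOfDetNeZero !![1, 1; 0, 1] (by simp [Matrix.det_fin_two])

theorem U_coe : ((U : GL2) : Matrix (Fin 2) (Fin 2) F) = !![1, 1; 0, 1] := rfl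

theorem det_W : GeneralLinearGroup.det (W : GL2) = 1 :=
  Units.ext (by rw [GeneralLinearGroup.val_det_apply, W_coe]; simp [Matrix.det_fin_two])

theorem det_U : GeneralLinearGroup.det (U : GL2) = 1 :=
  Units.ext (by rw [GeneralLinearGroup.val_det_apply, U_coe]; simp [Matrix.det_fin_two])

theorem mapGL_W (σ : F ≃+* F) : mapGL σ (W : GL2) = W := by
  refine Units.ext ?_
  rw [mapGL_coe, W_coe]
  ext i j
  fin_cases i <;> fin_cases j <;> simp

theorem mapGL_U (σ : F ≃+* F) : mapGL σ (U : GL2) = U := by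
  refine Units.ext ?_
  rw [mapGL_coe, U_coe]
  ext i j
  fin_cases i <;> fin_cases j <;> simp

variable [Fintype F]

theorem entries {g g' : GL2} {σ τ : F ≃+* F} (e : (semi g σ : MulAut PSL2) = semi g' τ) :
    ∃ c : F, ∀ i j, (g : Matrix (Fin 2) (Fin 2) F) i j = c * (g' : Matrix (Fin 2) (Fin 2) F) i j := by
  obtain ⟨-, c, hc⟩ := (semi_eq_semi le_rfl).1 e
  refine ⟨c, fun i j => ?_⟩
  rw [hc, Units.val_mul]
  show (Matrix.scalar (Fin 2) (c : F) * (g' : Matrix (Fin 2) (Fin 2) F)) i j = _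
  simp [Matrix.scalar_apply, Matrix.diagonal_mul]

theorem semi_dg_eq_one {a b : Fˣ} : (semi (dg a b) 1 : MulAut PSL2) = 1 ↔ a = b := by
  refine ⟨fun e => ?_, fun e => ?_⟩
  · rw [← semi_one] at e
    obtain ⟨c, hc⟩ := entries e
    have h0 := hc 0 0
    have h1 := hc 1 1
    simp [dg_coe] at h0 h1
    exact Units.ext (h0.trans h1.symm)
  · subst e
    refine (semi_eq_one_iff le_rfl).2 ⟨rfl, a, Units.ext ?_⟩
    rw [dg_coe]
    show _ = Matrix.scalar (Fin 2) (a : F)
    ext i j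
    fin_cases i <;> fin_cases j <;> simp

theorem semi_pow_one (g : GL2) (n : ℕ) : (semi g 1 : MulAut PSL2) ^ n = semi (g ^ n) 1 :=
  by rw [← conjHom_apply, ← conjHom_apply, map_pow]

/-- The Weyl element as an automorphism. -/
noncomputable def w : MulAut PSL2 := semi W 1

theorem orderOf_w : orderOf (w : MulAut PSL2) = 2 := by
  refine order_two_of_sq ?_ fun e => ?_
  · rw [w, semi_mul', mapGL_one, mul_one, semi_eq_one_iff le_rfl]
    refine ⟨rfl, -1, Units.ext ?_⟩
    rw [Units.val_mul, W_coe]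
    show _ = Matrix.scalar (Fin 2) ((-1 : Fˣ) : F)
    ext i j
    fin_cases i <;> fin_cases j <;> simp [Matrix.mul_apply, Fin.sum_univ_two]
  · rw [w, ← semi_one] at e
    obtain ⟨c, hc⟩ := entries e
    have := hc 0 1
    simp [W_coe] at this

theorem comm_fixed {g : GL2} {σ : F ≃+* F} (hg : mapGL σ g = g) :
    Commute (semi g 1 : MulAut PSL2) (semi 1 σ) := by
  show _ * _ = _ * _
  rw [semi_mul', semi_mul', mapGL_one, mul_one, hg, one_mul, one_mul, mul_one]

theorem eq_pow_two_add {φ : MulAut PSL2} (j : ℕ) : φ ^ (2 * j + 1) = (φ ^ 2) ^ j * φ := by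
  rw [pow_succ, pow_mul]

theorem mem_of_square {A : Subgroup (MulAut PSL2)} (hA : Cfsg.Inn PSL2 ≤ A) {g : GL2} (hg : GeneralLinearGroup.det g ∈ sq2) :
    (semi g 1 : MulAut PSL2) ∈ A :=
  hA ((semi_mem_inn le_rfl g).2 hg)

theorem w_mem {A : Subgroup (MulAut PSL2)} (hA : Cfsg.Inn PSL2 ≤ A) : (w : MulAut PSL2) ∈ A :=
  mem_of_square hA (by rw [det_W]; exact one_mem _)

theorem normalise {A : Subgroup (MulAut PSL2)} (hA : Cfsg.Inn PSL2 ≤ A) {g : GL2} {σ : F ≃+* F} {δ : Fˣ}
    (hmem : (semi g σ : MulAut PSL2) ∈ A) (hd : GeneralLinearGroup.det g * δ⁻¹ ∈ sq2) :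
    (semi (dg δ 1) σ : MulAut PSL2) ∈ A := by
  have h1 : (semi (g * (dg δ 1)⁻¹) 1 : MulAut PSL2) ∈ A := mem_of_square hA (by
    rwa [map_mul, map_inv, det_dg, mul_one])
  have h2 := mul_mem (inv_mem h1) hmem
  rw [semi_left, semi_mul', mapGL_one, one_mul] at h2
  rwa [show (g * (dg δ 1)⁻¹)⁻¹ * g = dg δ 1 by group] at h2

/-- No standard field automorphism of odd prime order. -/
theorem false_odd {A : Subgroup (MulAut PSL2)} (h : NC A)
    (hA : Cfsg.Inn PSL2 ≤ A) {σ : F ≃+* F} (hσ : Odd (orderOf σ)) (hσ1 : σ ≠ 1)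
    (hmem : (semi 1 σ : MulAut PSL2) ∈ A) : False := by
  refine false_of_outside h (w_mem hA) hmem (mem_of_square hA (g := U) (by rw [det_U]; exact one_mem _))
    orderOf_w (comm_fixed (mapGL_W σ)).symm (comm_fixed (mapGL_U σ))
    (by rwa [orderOf_semi_one le_rfl]) (fun e => hσ1 ?_) fun e => ?_
  · have := orderOf_semi_one (n := 2) le_rfl σ
    rw [e, orderOf_one] at this
    exact orderOf_eq_one_iff.1 this.symm
  · rw [w, semi_mul', semi_mul', mapGL_one, mapGL_one] at e
    obtain ⟨c, hc⟩ := entries e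
    have := hc 0 0
    simp [W_coe, U_coe, Matrix.mul_apply, Fin.sum_univ_two] at this

/-- No standard field involution. -/
theorem false_two {A : Subgroup (MulAut PSL2)} (h : NC A)
    (hA : Cfsg.Inn PSL2 ≤ A) (hq : Fintype.card F ≠ 4) {σ : F ≃+* F} (hσ : orderOf σ = 2)
    (hmem : (semi 1 σ : MulAut PSL2) ∈ A) : False := by
  have hτ : orderOf (semi 1 σ : MulAut PSL2) = 2 := (orderOf_semi_one le_rfl σ).trans hσ
  have hU : (semi U 1 : MulAut PSL2) ∈ A := mem_of_square hA (by rw [det_U]; exact one_mem _)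
  rcases Nat.even_or_odd (Fintype.card F) with hev | hodd
  · -- an element of a fixed torus
    obtain ⟨K, hK, hKc⟩ := exists_fixed_field σ
    rw [hσ] at hKc
    have hK3 : 2 < Nat.card K := by
      have h1 : 1 < Nat.card K := Finite.one_lt_card
      by_contra hle
      exact hq (by rw [hKc, show Nat.card K = 2 by omega]; norm_num)
    obtain ⟨l, hlK, hl0, hl1⟩ : ∃ l : F, l ∈ K ∧ l ≠ 0 ∧ l ≠ 1 := by
      by_contra hcon
      push Not at hcon
      have hsub : (K : Set F) ⊆ {0, 1} := fun x hx => by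
        by_cases h0 : x = 0
        · exact Or.inl h0
        · exact Or.inr (hcon x hx h0)
      have := (Set.ncard_le_ncard hsub).trans (Set.ncard_insert_le _ _)
      rw [Set.ncard_singleton, ← Nat.card_coe_set_eq] at this
      exact absurd (show Nat.card K ≤ 2 from this) (by omega)
    set L : Fˣ := Units.mk0 l hl0
    have hfix : sU σ L = L := Units.ext ((hK l).1 hlK)
    have hTfix : mapGL σ (dg L L⁻¹) = (dg L L⁻¹ : GL2) := by rw [mapGL_dg, map_inv, hfix]
    have hpow : (semi (dg L L⁻¹) 1 : MulAut PSL2) ^ (Fintype.card F - 1) = 1 := by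
      have e : L ^ (Fintype.card F - 1) = 1 := Units.ext (by
        rw [Units.val_pow_eq_pow_val, Units.val_one]
        exact FiniteField.pow_card_sub_one_eq_one l hl0)
      rw [semi_pow_one, dg_pow, inv_pow, e, inv_one, dg_one, semi_one]
    have hoo : Odd (Fintype.card F - 1) := by
      obtain ⟨m, hm⟩ := hev
      have : 1 < Fintype.card F := Fintype.one_lt_card
      exact ⟨m - 1, by omega⟩
    obtain ⟨n, hn⟩ := exists_pow_conj h hmem
      (mem_of_square hA (g := dg L L⁻¹) (by rw [det_dg, mul_inv_cancel]; exact one_mem _)) hU hτ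
      (comm_fixed hTfix) (comm_fixed (mapGL_U σ))
      (hoo.of_dvd_nat (orderOf_dvd_of_pow_eq_one hpow))
    rw [semi_pow_one, semi_mul', semi_mul', mapGL_one, mapGL_one, dg_pow] at hn
    obtain ⟨c, hc⟩ := entries hn
    have c00 := hc 0 0
    have c01 := hc 0 1
    simp [U_coe, dg_coe, Matrix.mul_apply, Fin.sum_univ_two, L] at c00 c01
    have e2 : l * l = 1 := by
      rw [← c01] at c00
      field_simp at c00
      linear_combination c00
    haveI : CharP F 2 := by
      have := FiniteField.even_card_iff_char_two.2 (Nat.even_iff.1 hev)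
      exact ringChar.eq_iff.1 this
    have : (l - 1) * (l - 1) = 0 := by
      linear_combination e2 + (1 - l) * (CharTwo.two_eq_zero (R := F))
    exact hl1 (sub_eq_zero.1 (mul_self_eq_zero.1 this))
  · -- a transvection
    have hp : ∀ n : ℕ, ((U ^ n : GL2) : Matrix (Fin 2) (Fin 2) F) = !![1, (n : F); 0, 1] := by
      intro n
      induction n with
      | zero =>
        rw [pow_zero, Units.val_one]
        ext i j
        fin_cases i <;> fin_cases j <;> simp
      | succ n ih =>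
        rw [pow_succ, Units.val_mul, ih, U_coe]
        ext i j
        fin_cases i <;> fin_cases j <;> simp [Matrix.mul_apply, Fin.sum_univ_two, add_comm]
    have hpow : (semi U 1 : MulAut PSL2) ^ Fintype.card F = 1 := by
      rw [semi_pow_one, show (U ^ Fintype.card F : GL2) = 1 from Units.ext (by
        rw [hp, FiniteField.cast_card_eq_zero, Units.val_one]
        ext i j
        fin_cases i <;> fin_cases j <;> simp), semi_one]
    obtain ⟨n, hn⟩ := exists_pow_conj h hmem hU (w_mem hA) hτ (comm_fixed (mapGL_U σ))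
      (comm_fixed (mapGL_W σ)) (hodd.of_dvd_nat (orderOf_dvd_of_pow_eq_one hpow))
    rw [semi_pow_one, w, semi_mul', semi_mul', mapGL_one, mapGL_one] at hn
    obtain ⟨c, hc⟩ := entries hn
    have := hc 1 1
    simp [hp, W_coe, U_coe, Matrix.mul_apply, Fin.sum_univ_two] at this

/-- No field involution twisted by a non-square. -/
theorem false_twisted {A : Subgroup (MulAut PSL2)} (h : NC A)
    (hA : Cfsg.Inn PSL2 ≤ A) (hodd : Odd (Fintype.card F)) (h5 : 5 ≤ Fintype.card F) {σ : F ≃+* F}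
    (hσ : orderOf σ = 2) {ν : Fˣ} (hν : ∀ x : Fˣ, x ∈ Subgroup.zpowers ν)
    (hmem : (semi (dg ν 1) σ : MulAut PSL2) ∈ A) : False := by
  have hσσ : σ * σ = 1 := by rw [← pow_two, ← hσ, pow_orderOf_eq_one]
  have hσ1 : σ ≠ 1 := fun e => by rw [e, orderOf_one] at hσ; exact absurd hσ (by norm_num)
  have hss : ∀ x, σ (σ x) = x := fun x => by
    rw [show σ (σ x) = (σ * σ) x from rfl, hσσ]; rfl
  have h2 : (2 : F) ≠ 0 := Ring.two_ne_zero fun hc =>
    Nat.not_even_iff_odd.2 hodd (Nat.even_iff.2 (FiniteField.even_card_iff_char_two.1 hc))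
  have hall : ∀ x : Fˣ, ∀ μ : Fˣ, sU σ ν = μ → ∃ k : ℤ, x = ν ^ k ∧ sU σ x = μ ^ k := by
    intro x μ hμ
    obtain ⟨k, hk⟩ := Subgroup.mem_zpowers_iff.1 (hν x)
    exact ⟨k, hk.symm, by rw [← hk, map_zpow, hμ]⟩
  have hne : ∀ μ : Fˣ, sU σ ν = μ → μ ≠ ν := by
    intro μ hμ e
    refine hσ1 (RingEquiv.ext fun x => ?_)
    by_cases hx : x = 0
    · simp [hx]
    obtain ⟨k, hk, hk'⟩ := hall (Units.mk0 x hx) μ hμ
    rw [e, ← hk] at hk'
    exact congrArg Units.val hk'
  have hν1 : (ν : F) ≠ -1 := fun e => hne _ rfl (Units.ext (by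
    rw [sU_coe, e, map_neg, map_one]))
  have hν1' : (1 : F) + ν ≠ 0 := fun e => hν1 (eq_neg_of_add_eq_zero_right e)
  set N : Fˣ := ν * sU σ ν with hN
  have hNfix : sU σ N = N := by
    rw [hN, map_mul, mul_comm]
    congr 1
    exact Units.ext (hss _)
  -- the norm is not trivial
  have hN1 : N ≠ 1 := by
    intro e
    have hinv : sU σ ν = ν⁻¹ := eq_inv_of_mul_eq_one_right e
    obtain ⟨k, hk, hk'⟩ := hall (Units.mk0 _ hν1') ν⁻¹ hinv
    rw [_root_.inv_zpow, ← hk] at hk'
    have e1 : σ (1 + ν) * (1 + (ν : F)) = 1 :=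
      congrArg Units.val (mul_eq_one_iff_eq_inv.2 hk')
    have e2 : σ (ν : F) * ν = 1 := by
      rw [← sU_coe, ← Units.val_mul, mul_comm, ← hN, e, Units.val_one]
    rw [map_add, map_one] at e1
    have e3 : (ν : F) ^ 3 = 1 := by
      linear_combination ((ν : F) - 1) * ν * e1 - ((ν : F) - 1) * (1 + ν) * e2
    have h4 : orderOf ν ∣ 3 := orderOf_dvd_of_pow_eq_one (Units.ext (by
      rw [Units.val_pow_eq_pow_val, e3, Units.val_one]))
    rw [orderOf_eq_card_of_forall_mem_zpowers hν, Nat.card_units, Nat.card_eq_fintype_card] at h4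
    have := Nat.le_of_dvd (by norm_num) h4
    omega
  set φ : MulAut PSL2 := semi (dg ν 1) σ with hφ
  have hφ2 : φ ^ 2 = semi (dg N 1) 1 := by
    rw [pow_two, hφ, semi_mul', mapGL_dg, dg_mul, map_one, mul_one, hσσ, hN]
  have hev : Even (orderOf φ) := by
    have h1 := orderOf_map_dvd GW.fldHom φ
    rw [hφ, GW.fldHom_semi, hσ] at h1
    exact even_iff_two_dvd.2 h1
  have hw' : ∀ (a b : Fˣ), W * dg a b = (dg b a * W : GL2) := fun a b => by
    refine Units.ext ?_
    rw [Units.val_mul, Units.val_mul, W_coe, dg_coe, dg_coe]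
    ext i j
    fin_cases i <;> fin_cases j <;> simp [Matrix.mul_apply, Fin.sum_univ_two]
  have hinv : w * φ ^ 2 * w⁻¹ = (φ ^ 2)⁻¹ := by
    have e1 : w * φ ^ 2 = (semi (dg 1 N) 1 : MulAut PSL2) * w := by
      rw [hφ2, w, semi_mul', semi_mul', mapGL_one, mapGL_one, hw']
    rw [e1, mul_inv_cancel_right, eq_inv_iff_mul_eq_one, hφ2, semi_mul', mapGL_one, mul_one, dg_mul,
      semi_dg_eq_one, one_mul, mul_one]
  obtain ⟨n, hn⟩ := exists_pow_of_sq h hmem (w_mem hA) hev
    (fun e => hN1 (semi_dg_eq_one.1 (hφ2.symm.trans e))) hinv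
  have hwφ : w * φ * w⁻¹ = semi (dg 1 ν) σ := by
    rw [mul_inv_eq_iff_eq_mul, hφ, w, semi_mul', semi_mul', mapGL_one, mapGL_W, hw', one_mul, mul_one]
  rw [hwφ] at hn
  have hodd' : Odd n := by
    rw [← Nat.not_even_iff_odd]
    rintro ⟨m, rfl⟩
    have := congrArg GW.fldHom hn
    rw [map_pow, hφ, GW.fldHom_semi, GW.fldHom_semi, ← two_mul, pow_mul, pow_two σ, hσσ, one_pow] at this
    exact hσ1 this
  obtain ⟨j, rfl⟩ := hodd'
  rw [eq_pow_two_add, hφ2, semi_pow_one, hφ, semi_mul', mapGL_one, one_mul, dg_pow, dg_mul, one_pow,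
    one_mul] at hn
  obtain ⟨c, hc⟩ := entries hn
  have c00 := hc 0 0
  have c11 := hc 1 1
  simp [dg_coe] at c00 c11
  have hsq : N ^ j * (ν * ν) = 1 := Units.ext (by
    push_cast
    rw [← c11] at c00
    linear_combination -c00)
  have hfix2 : sU σ (ν * ν) = ν * ν := by
    rw [eq_inv_of_mul_eq_one_right hsq, map_inv, map_pow, hNfix]
  -- `σ ν = ± ν`
  have hpm : sU σ ν = ν ∨ sU σ ν = -ν := by
    rw [map_mul] at hfix2
    rcases mul_self_eq_mul_self_iff.1 (congrArg Units.val hfix2 :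
      (sU σ ν : F) * (sU σ ν : F) = (ν : F) * (ν : F)) with e | e
    · exact Or.inl (Units.ext e)
    · exact Or.inr (Units.ext e)
  rcases hpm with e | e
  · exact hne _ e rfl
  obtain ⟨k, hk, hk'⟩ := hall (Units.mk0 _ hν1') (-ν) e
  have e' : σ (ν : F) = -(ν : F) := congrArg Units.val e
  rcases Int.even_or_odd k with hk2 | hk2
  · rw [hk2.neg_zpow, ← hk] at hk'
    have : σ (1 + ν) = 1 + (ν : F) := congrArg Units.val hk'
    rw [map_add, map_one, e'] at this
    exact mul_ne_zero h2 ν.ne_zero (by linear_combination -this)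
  · rw [hk2.neg_zpow, ← hk] at hk'
    have : σ (1 + ν) = -(1 + (ν : F)) := congrArg Units.val hk'
    rw [map_add, map_one, e'] at this
    exact h2 (by linear_combination this)

/-- All elements have trivial field part. -/
theorem fld_trivial {A : Subgroup (MulAut PSL2)} (h : NC A)
    (hA : Cfsg.Inn PSL2 ≤ A) (h5 : 5 ≤ Fintype.card F) {β : MulAut PSL2} (hβ : β ∈ A) :
    GW.fldHom β = 1 := by
  haveI : Finite (F ≃+* F) :=
    Finite.of_injective (fun e : F ≃+* F => (e : F → F)) DFunLike.coe_injective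
  by_contra hne
  obtain ⟨e, he, hed⟩ := Nat.exists_prime_and_dvd
    (n := orderOf (GW.fldHom β)) fun e' => hne (orderOf_eq_one_iff.1 e')
  obtain ⟨σ, g, hmem, hσ⟩ : ∃ (σ : F ≃+* F) (g : GL2),
      (semi g σ : MulAut PSL2) ∈ A ∧ orderOf σ = e := by
    obtain ⟨m, hm⟩ := hed
    have hm0 : m ≠ 0 := fun e0 => by
      rw [e0, mul_zero] at hm
      exact (orderOf_pos (GW.fldHom β)).ne' hm
    obtain ⟨g, σ, hg⟩ := GW.exists_semi (β ^ m)
    refine ⟨σ, g, hg ▸ pow_mem hβ m, ?_⟩
    rw [← GW.fldHom_semi g σ, ← hg, map_pow, orderOf_pow' _ hm0, hm,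
      Nat.gcd_eq_right (dvd_mul_left m e), Nat.mul_div_cancel _ (Nat.pos_of_ne_zero hm0)]
  have hσ1 : σ ≠ 1 := fun e' => he.ne_one (by rw [← hσ, e', orderOf_one])
  -- reduction to a standard automorphism
  have std : ∀ τ : F ≃+* F, orderOf τ = e → (semi 1 τ : MulAut PSL2) ∈ A → False := by
    intro τ hτ hτm
    rcases he.eq_two_or_odd' with rfl | ho
    · exact false_two h hA (by omega) hτ hτm
    · exact false_odd h hA (hτ ▸ ho) (fun e' => he.ne_one (by rw [← hτ, e', orderOf_one])) hτm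
  by_cases hsq : GeneralLinearGroup.det g ∈ sq2
  · have := normalise hA (δ := 1) hmem (by rwa [inv_one, mul_one])
    rw [dg_one] at this
    exact std σ hσ this
  have hodd : Odd (Fintype.card F) := by
    by_contra hev
    obtain ⟨y, hy⟩ := FiniteField.isSquare_of_char_two (F := F)
      (FiniteField.even_card_iff_char_two.2 (Nat.even_iff.1 (Nat.not_odd_iff_even.1 hev)))
      (GeneralLinearGroup.det g : F)
    have hy0 : y ≠ 0 := fun e0 => (GeneralLinearGroup.det g).ne_zero (by rw [hy, e0, mul_zero])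
    exact hsq ⟨Units.mk0 y hy0, Units.ext (by
      rw [powMonoidHom_apply, Units.val_pow_eq_pow_val, Units.val_mk0, hy, pow_two])⟩
  have hidx : (sq2).index = 2 := by
    rw [Subgroup.index_eq_card, card_quotient_powMonoidHom rfl]
    obtain ⟨k, hk⟩ := hodd
    rw [hk, Nat.add_sub_cancel]
    exact Nat.gcd_eq_left (dvd_mul_right 2 k)
  obtain ⟨ν, hν⟩ := IsCyclic.exists_generator (α := Fˣ)
  have hνsq : ν ∉ sq2 := by
    intro hmem'
    have : sq2 = ⊤ := top_unique fun x _ => by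
      obtain ⟨k, hk⟩ := Subgroup.mem_zpowers_iff.1 (hν x)
      exact hk ▸ zpow_mem hmem' k
    rw [this, Subgroup.index_top] at hidx
    exact absurd hidx (by norm_num)
  have hδ : (semi (dg ν 1) σ : MulAut PSL2) ∈ A := normalise hA hmem
    ((Subgroup.mul_mem_iff_of_index_two hidx).2 (iff_of_false hsq fun hh => hνsq (inv_mem_iff.1 hh)))
  rcases he.eq_two_or_odd' with rfl | ho
  · exact false_twisted h hA hodd h5 hσ hν hδ
  have hsν : sU σ ν ∉ sq2 := by
    rintro ⟨y, hy⟩
    refine hνsq ⟨sU σ.symm y, Units.ext ?_⟩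
    have hy' : (y : F) ^ 2 = σ ν := congrArg Units.val hy
    show (σ.symm (y : F)) ^ 2 = (ν : F)
    rw [← map_pow, hy', RingEquiv.symm_apply_apply]
  have h2m := mul_mem hδ hδ
  rw [semi_mul', mapGL_dg, dg_mul, map_one, mul_one] at h2m
  have := normalise hA (δ := 1) h2m (by
    rw [det_dg, inv_one, mul_one, mul_one]
    exact (Subgroup.mul_mem_iff_of_index_two hidx).2 (iff_of_false hνsq hsν))
  rw [dg_one] at this
  refine std (σ * σ) ?_ this
  rw [← pow_two, Nat.Coprime.orderOf_pow (by rw [hσ]; exact Nat.coprime_two_right.2 ho), hσ]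

end AutField

end Cfsg.Agent.NormCyc
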