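import Cfsg.Agent.Lib.BSW.Dihedral
import Cfsg.Agent.Lib.Transfer.Basic
import Cfsg.Agent.Lib.Transfer.SignThompson
import Cfsg.Agent.Lib.ZStarApps.CommTwo
import Cfsg.Agent.Lib.Involutions.Basic
import Cfsg.Agent.Lib.OddChar.OddTheorem
import Cfsg.Agent.Lib.CNSimple.Almost

/-!
Groups in which a cyclic subgroup of even order has the normaliser of each of its non-trivial
subgroups: elementary properties.
-/

set_option autoImplicit false
set_option linter.style.haveILetI false
set_option linter.unusedSectionVars false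

namespace Cfsg.Agent.NormCyc

open Cfsg.Agent.Invol Cfsg.Agent.BSW

universe u

variable {G : Type u} [Group G]

/-- The non-trivial subgroups of a cyclic subgroup of even order share its normaliser. -/
def NC (G : Type u) [Group G] : Prop :=
  ∀ x : G, Even (orderOf x) → ∀ y ∈ Subgroup.zpowers x, y ≠ 1 →
    Subgroup.normalizer (Subgroup.zpowers x : Set G) =
      Subgroup.normalizer (Subgroup.zpowers y : Set G)

theorem normalizer_invol {t : G} (ht : orderOf t = 2) :
    Subgroup.normalizer (Subgroup.zpowers t : Set G) = Cz t := by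
  refine le_antisymm (fun g hg => ?_) fun g hg => ?_
  · have h := (Subgroup.mem_normalizer_iff.1 hg t).1 (Subgroup.mem_zpowers t)
    obtain ⟨i, hi⟩ := h
    rw [mem_Cz', ← hi]
    show t ^ i = t
    rcases Int.even_or_odd' i with ⟨j, rfl | rfl⟩
    · exfalso
      have e : t ^ (2 * j) = 1 := by rw [zpow_mul, zpow_two, mul_self ht, one_zpow]
      rw [show (fun x : ℤ => t ^ x) (2 * j) = t ^ (2 * j) from rfl, e] at hi
      exact ne_one ht (conj_eq_one_iff.1 hi.symm)
    · rw [zpow_add, zpow_mul, zpow_two, mul_self ht, one_zpow, one_mul, zpow_one]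
  · refine Subgroup.centralizer_le_normalizer _ (Subgroup.mem_centralizer_iff.2 fun h hh => ?_)
    obtain ⟨j, rfl⟩ := Subgroup.mem_zpowers_iff.1 hh
    have hc : Commute g t := mem_Cz.1 hg
    exact (hc.zpow_right j).eq.symm

/-- An involution in a cyclic subgroup is unique. -/
theorem invol_unique [Finite G] {x s t : G} (hs : orderOf s = 2) (ht : orderOf t = 2)
    (hsx : s ∈ Subgroup.zpowers x) (htx : t ∈ Subgroup.zpowers x) : s = t :=
  (eq_one_or_eq_of_cyclic (R := Subgroup.zpowers x) (Subgroup.isCyclic_zpowers x) ht htx hsx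
    (mul_self hs)).resolve_left (ne_one hs)

/-- A non-trivial `2`-element has an involution among its powers. -/
theorem exists_invol_zpowers [Finite G] {x : G} (h : Even (orderOf x)) :
    ∃ v : G, orderOf v = 2 ∧ v ∈ Subgroup.zpowers x := by
  haveI : Fact (Nat.Prime 2) := ⟨Nat.prime_two⟩
  obtain ⟨⟨v, hv⟩, hvo⟩ := exists_prime_orderOf_dvd_card' (G := Subgroup.zpowers x) 2
    (by rw [Nat.card_zpowers]; exact even_iff_two_dvd.1 h)
  exact ⟨v, by rwa [Subgroup.orderOf_mk] at hvo, hv⟩

theorem even_of_invol [Finite G] {x t : G} (ht : orderOf t = 2) (htx : t ∈ Subgroup.zpowers x) :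
    Even (orderOf x) :=
  even_iff_two_dvd.2 (ht ▸ orderOf_dvd_of_mem_zpowers htx)

theorem even_of_two_power [Finite G] {x : G} (hx : ∃ k, orderOf x = 2 ^ k) (hx1 : x ≠ 1) :
    Even (orderOf x) := by
  obtain ⟨k, hk⟩ := hx
  rcases k with _ | k
  · exact absurd (orderOf_eq_one_iff.1 hk) hx1
  · exact ⟨2 ^ k, by rw [hk]; ring⟩

theorem odd_of_zpowers [Finite G] {a b : G} (ha : Odd (orderOf a)) (hb : b ∈ Subgroup.zpowers a) :
    Odd (orderOf b) :=
  ha.of_dvd_nat (orderOf_dvd_of_mem_zpowers hb)

variable [Finite G]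

theorem norm_eq (h : NC G) {t x y : G} (ht : orderOf t = 2) (htx : t ∈ Subgroup.zpowers x)
    (hy : y ∈ Subgroup.zpowers x) (hy1 : y ≠ 1) :
    Subgroup.normalizer (Subgroup.zpowers y : Set G) = Cz t := by
  rw [← normalizer_invol ht, ← h x (even_of_invol ht htx) y hy hy1,
    h x (even_of_invol ht htx) t htx (ne_one ht)]

/-- Every cyclic subgroup containing `t` is normal in the centraliser of `t`. -/
theorem conj_mem (h : NC G) {t x g : G} (ht : orderOf t = 2) (htx : t ∈ Subgroup.zpowers x)
    (hg : g ∈ Cz t) : g * x * g⁻¹ ∈ Subgroup.zpowers x := by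
  have hx1 : x ≠ 1 := fun e => by
    rw [e, Subgroup.zpowers_one_eq_bot, Subgroup.mem_bot] at htx
    exact ne_one ht htx
  rw [← norm_eq h ht htx (Subgroup.mem_zpowers x) hx1] at hg
  exact (Subgroup.mem_normalizer_iff.1 hg x).1 (Subgroup.mem_zpowers x)

theorem norm_odd (h : NC G) {t a : G} (ht : orderOf t = 2) (hc : Commute a t)
    (ha : Odd (orderOf a)) (ha1 : a ≠ 1) :
    Subgroup.normalizer (Subgroup.zpowers a : Set G) = Cz t := by
  have htm : t ∈ Subgroup.zpowers (a * t) := by
    refine ⟨(orderOf a : ℤ), ?_⟩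
    show (a * t) ^ (orderOf a : ℤ) = t
    rw [zpow_natCast, hc.mul_pow, pow_orderOf_eq_one, one_mul]
    obtain ⟨j, hj⟩ := ha
    rw [hj, pow_succ, pow_mul, pow_two, mul_self ht, one_pow, one_mul]
  have ham : a ∈ Subgroup.zpowers (a * t) := by
    have := mul_mem (Subgroup.mem_zpowers (a * t)) (inv_mem htm)
    rwa [mul_inv_cancel_right] at this
  exact norm_eq h ht htm ham ha1

theorem Cz_le_of_odd (h : NC G) {t a : G} (ht : orderOf t = 2) (hc : Commute a t)
    (ha : Odd (orderOf a)) (ha1 : a ≠ 1) : Cz a ≤ Cz t := by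
  intro g hg
  rw [← norm_odd h ht hc ha ha1]
  refine Subgroup.centralizer_le_normalizer _ (Subgroup.mem_centralizer_iff.2 fun b hb => ?_)
  obtain ⟨j, rfl⟩ := Subgroup.mem_zpowers_iff.1 hb
  have hga : Commute g a := mem_Cz.1 hg
  exact (hga.zpow_right j).eq.symm

theorem conj_mem_odd (h : NC G) {t a g : G} (ht : orderOf t = 2) (hc : Commute a t)
    (ha : Odd (orderOf a)) (hg : g ∈ Cz t) : g * a * g⁻¹ ∈ Subgroup.zpowers a := by
  by_cases ha1 : a = 1
  · rw [ha1, mul_one, mul_inv_cancel]; exact one_mem _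
  rw [← norm_odd h ht hc ha ha1] at hg
  exact (Subgroup.mem_normalizer_iff.1 hg a).1 (Subgroup.mem_zpowers a)

/-- Two involutions centralising a common non-trivial element of odd order have the same
centraliser. -/
theorem Cz_eq (h : NC G) {s t a : G} (hs : orderOf s = 2) (ht : orderOf t = 2) (hsa : Commute a s)
    (hta : Commute a t) (ha : Odd (orderOf a)) (ha1 : a ≠ 1) : Cz s = Cz t := by
  rw [← norm_odd h hs hsa ha ha1, norm_odd h ht hta ha ha1]

/-- The elements of odd order in the centraliser of an involution form a subgroup. -/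
theorem odd_mul (h : NC G) {t a b : G} (ht : orderOf t = 2) (hca : Commute a t) (hcb : Commute b t)
    (ha : Odd (orderOf a)) (hb : Odd (orderOf b)) : Odd (orderOf (a * b)) := by
  have hbN : b ∈ Subgroup.normalizer (Subgroup.zpowers a : Set G) := by
    by_cases ha1 : a = 1
    · rw [ha1, Subgroup.zpowers_one_eq_bot, Subgroup.normalizer_eq_top]; exact Subgroup.mem_top b
    rw [norm_odd h ht hca ha ha1]
    exact mem_Cz.2 hcb.eq
  set N := Subgroup.normalizer (Subgroup.zpowers a : Set G) with hN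
  have haN : a ∈ N := Subgroup.le_normalizer (Subgroup.mem_zpowers a)
  haveI : ((Subgroup.zpowers a).subgroupOf N).Normal := Subgroup.normal_in_normalizer
  let π := QuotientGroup.mk' ((Subgroup.zpowers a).subgroupOf N)
  have h1 : π (⟨a, haN⟩ * ⟨b, hbN⟩) = π ⟨b, hbN⟩ := by
    rw [map_mul, show π ⟨a, haN⟩ = 1 from (QuotientGroup.eq_one_iff _).2 (Subgroup.mem_zpowers a),
      one_mul]
  have h2 : π ((⟨a, haN⟩ * ⟨b, hbN⟩) ^ orderOf b) = 1 := by
    rw [map_pow, h1, ← map_pow,
      show (⟨b, hbN⟩ : N) ^ orderOf b = 1 from Subtype.ext (by simp [pow_orderOf_eq_one]), map_one]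
  have h3 : (a * b) ^ orderOf b ∈ Subgroup.zpowers a := by
    have := (QuotientGroup.eq_one_iff _).1 h2
    simpa [Subgroup.mem_subgroupOf] using this
  refine (hb.mul ha).of_dvd_nat (orderOf_dvd_of_pow_eq_one ?_)
  rw [pow_mul, ← orderOf_dvd_iff_pow_eq_one]
  exact orderOf_dvd_of_mem_zpowers h3

/-- The centraliser of an involution is soluble. -/
theorem solvable_Cz (h : NC G) {t : G} (ht : orderOf t = 2) : Group.IsSolvable (Cz t) := by
  haveI : Fact (Nat.Prime 2) := ⟨Nat.prime_two⟩
  let O : Subgroup (Cz t) :=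
    { carrier := {g | Odd (orderOf g)}
      one_mem' := by simp
      mul_mem' := fun {a b} ha hb => by
        show Odd (orderOf (a * b))
        rw [← Subgroup.orderOf_coe]
        exact odd_mul h ht (mem_Cz.1 a.2) (mem_Cz.1 b.2)
          (by rw [Subgroup.orderOf_coe]; exact ha) (by rw [Subgroup.orderOf_coe]; exact hb)
      inv_mem' := fun {a} ha => by
        show Odd (orderOf a⁻¹)
        rwa [orderOf_inv] }
  have hmem : ∀ g, g ∈ O ↔ Odd (orderOf g) := fun g => Iff.rfl
  haveI : O.Normal := ⟨fun a ha g => by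
    rw [hmem, Invol.order_conj]; exact (hmem a).1 ha⟩
  have hOodd : Odd (Nat.card O) := by
    rw [← Nat.not_even_iff_odd, even_iff_two_dvd]
    intro hd
    obtain ⟨⟨y, hy⟩, hy2⟩ := exists_prime_orderOf_dvd_card' (G := O) 2 hd
    rw [Subgroup.orderOf_mk] at hy2
    have := (hmem y).1 hy
    rw [hy2] at this
    exact absurd this (by decide)
  haveI : Group.IsSolvable O := OddChar.oddSolvable O hOodd
  have hq : IsPGroup 2 (Cz t ⧸ O) := by
    intro q
    obtain ⟨g, rfl⟩ := QuotientGroup.mk_surjective q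
    obtain ⟨u, v, huv, -, -, ⟨k, hk⟩, hv⟩ := PBasic.exists_pPart_mul (p := 2) g
    refine ⟨k, ?_⟩
    have hvO : v ∈ O := (hmem v).2 (Nat.coprime_two_right.1 hv)
    rw [← huv, QuotientGroup.mk_mul, (QuotientGroup.eq_one_iff v).2 hvO, mul_one,
      ← QuotientGroup.mk_pow, ← hk, pow_orderOf_eq_one, QuotientGroup.mk_one]
  haveI := hq.isNilpotent
  exact Group.isSolvable_of_ker_le_range O.subtype (QuotientGroup.mk' O)
    (by rw [QuotientGroup.ker_mk', Subgroup.range_subtype])

/-- The hypothesis passes to groups embedded in `G`. -/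
theorem NC.comap (h : NC G) {H : Type*} [Group H] (f : H →* G) (hf : Function.Injective f) :
    NC H := by
  intro x hx y hy hy1
  have e : ∀ w : H, (Subgroup.zpowers w).map f = Subgroup.zpowers (f w) := MonoidHom.map_zpowers f
  have key : ∀ w g : H, g ∈ Subgroup.normalizer (Subgroup.zpowers w : Set H) ↔
      f g ∈ Subgroup.normalizer (Subgroup.zpowers (f w) : Set G) := by
    intro w g
    rw [Subgroup.mem_normalizer_iff_map_conj_eq, Subgroup.mem_normalizer_iff_map_conj_eq]
    simp only [MonoidHom.map_zpowers, MonoidHom.coe_coe, MulEquiv.coe_toMonoidHom,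
      MulAut.conj_apply]
    rw [show f g * f w * (f g)⁻¹ = f (g * w * g⁻¹) by simp, ← e, ← e]
    exact ⟨fun e' => by rw [e'], fun e' => Subgroup.map_injective hf e'⟩
  have hiff := h (f x) (by rwa [orderOf_injective f hf]) (f y)
    (by rw [← e]; exact Subgroup.mem_map_of_mem f hy) (fun h1 => hy1 (hf (h1.trans (map_one f).symm)))
  ext g
  rw [key, key, hiff]

/-- A sign character is trivial in a simple group. -/
theorem no_sign [IsSimpleGroup G] (hna : ¬ IsMulCommutative G) (χ : G →* ℤˣ) (g : G) :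
    χ g = 1 := by
  by_contra hg
  refine ZStarApps.no_index_two hna χ.ker inferInstance ?_
  rw [Subgroup.index_ker]
  have : χ.range = ⊤ := by
    rw [Subgroup.eq_top_iff']
    intro z
    rcases Int.units_eq_one_or z with rfl | rfl
    · exact one_mem _
    · exact ⟨g, (Int.units_eq_one_or (χ g)).resolve_left hg⟩
  rw [this, Subgroup.card_top, Nat.card_eq_fintype_card, Fintype.card_units_int]

/-- Transfer in a simple group: an involution of `2^k`-power in a complement meets the subgroup. -/
theorem exists_conj_mem [IsSimpleGroup G] (hna : ¬ IsMulCommutative G) (M : Subgroup G) {u : G}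
    {k m : ℕ} (hu : orderOf u = 2 ^ (k + 1)) (hm : Odd m) (hidx : M.index = 2 ^ (k + 1) * m) :
    ∃ g : G, g⁻¹ * u ^ (2 ^ k) * g ∈ M := by
  by_contra hcon
  push Not at hcon
  obtain ⟨χ, hχ⟩ := SignThompson.exists_sign_hom M u k m hu hcon hm hidx
  rw [no_sign hna χ u] at hχ
  exact absurd hχ (by decide)

end Cfsg.Agent.NormCyc
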