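import Cfsg.Agent.Lib.NormCyclic.Simple

/-!
The cases in which the action on the element of odd order has at least four values, or the
involution is not central in a Sylow subgroup.
-/

set_option autoImplicit false
set_option linter.style.haveILetI false
set_option linter.unusedSectionVars false

namespace Cfsg.Agent.NormCyc

open Cfsg.Agent.Invol Cfsg.Agent.BSW

universe u

variable {G : Type u} [Group G] [Finite G]

/-- All involutions central in a Sylow subgroup have `2`-groups as centralisers. -/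
def CentralTwo (G : Type u) [Group G] : Prop :=
  ∀ (T : Sylow 2 G) (z : G), orderOf z = 2 → (T : Subgroup G) ≤ Cz z → IsPGroup 2 (Cz z)

theorem exists_sylow_ge {Q H : Subgroup G} (hQ : IsPGroup 2 Q) (hQH : Q ≤ H) :
    ∃ T : Sylow 2 G, Q ≤ (T : Subgroup G) ∧ ¬ 2 ∣ ((T : Subgroup G) ⊓ H).relIndex H := by
  haveI : Fact (Nat.Prime 2) := ⟨Nat.prime_two⟩
  obtain ⟨P, hP⟩ := (hQ.comap_of_injective H.subtype H.subtype_injective).exists_le_sylow
  obtain ⟨T, hT⟩ := (P.isPGroup'.map H.subtype).exists_le_sylow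
  refine ⟨T, fun q hq => hT ⟨⟨q, hQH hq⟩, hP hq, rfl⟩, fun hd => P.not_dvd_index (hd.trans ?_)⟩
  rw [Subgroup.relIndex]
  exact Subgroup.index_dvd_of_le fun x hx => ⟨hT ⟨x, hx, rfl⟩, x.2⟩

/-- A central element lies in every Sylow subgroup. -/
theorem t_mem {t : G} (ht : orderOf t = 2) {T : Sylow 2 G}
    (hT : ¬ 2 ∣ ((T : Subgroup G) ⊓ Cz t).relIndex (Cz t)) : t ∈ (T : Subgroup G) := by
  have hn : Subgroup.zpowers t ≤
      Subgroup.normalizer ((((T : Subgroup G) ⊓ Cz t : Subgroup G)) : Set G) := by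
    rw [Subgroup.zpowers_le]
    exact Subgroup.centralizer_le_normalizer _
      (Subgroup.mem_centralizer_iff.2 fun g hg => (mem_Cz.1 hg.2))
  have := eq_of_odd_relIndex (IsPGroup.to_sup_of_normal_right'
    (IsPGroup.of_card (n := 1) (by rw [Nat.card_zpowers, ht, pow_one]))
    (T.isPGroup'.to_le inf_le_left) hn) le_sup_right
    (sup_le (Subgroup.zpowers_le.2 (self_mem_Cz t)) inf_le_right) hT
  exact (this.le (Subgroup.mem_sup_left (Subgroup.mem_zpowers t))).1

/-- A Sylow intersection of full order in a centraliser containing a Sylow subgroup. -/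
theorem le_of_central {t : G} {T T' : Sylow 2 G} (hT : (T : Subgroup G) ≤ Cz t)
    (hT' : ¬ 2 ∣ ((T' : Subgroup G) ⊓ Cz t).relIndex (Cz t)) : (T' : Subgroup G) ≤ Cz t := by
  haveI : Fact (Nat.Prime 2) := ⟨Nat.prime_two⟩
  have h0 : Nat.card (T' : Subgroup G) = Nat.card (T : Subgroup G) := by
    rw [T.card_eq_multiplicity, T'.card_eq_multiplicity]
  have h1 : Nat.card (T : Subgroup G) ∣
      Nat.card ((T' : Subgroup G) ⊓ Cz t : Subgroup G) *
        ((T' : Subgroup G) ⊓ Cz t).relIndex (Cz t) := by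
    rw [PBasic.card_mul_relIndex inf_le_right]
    exact Subgroup.card_dvd_of_le hT
  obtain ⟨j, hj⟩ := IsPGroup.iff_card.1 T.isPGroup'
  have h2 := (Nat.Coprime.pow_left j ((Nat.Prime.coprime_iff_not_dvd Nat.prime_two).2 hT'))
  rw [← hj] at h2
  have h3 := h2.dvd_of_dvd_mul_right h1
  exact inf_eq_left.1 (Subgroup.eq_of_le_of_card_ge inf_le_left
    (h0 ▸ Nat.le_of_dvd Nat.card_pos h3))

theorem not_pGroup_conj {t : G} (g : G) (h : ¬ IsPGroup 2 (Cz t)) :
    ¬ IsPGroup 2 (Cz (g * t * g⁻¹)) := by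
  intro h'
  rw [← Cz_map] at h'
  exact h (h'.of_equiv ((Cz t).equivMapOfInjective _ (MulAut.conj g).injective).symm)

namespace Pair

variable [IsSimpleGroup G] {t a : G} (hp : Pair t a) (hna : ¬ IsMulCommutative G) (h : NC G)
include hp hna h

theorem not_pGroup : ¬ IsPGroup 2 (Cz t) := fun h' =>
  hp.a_ne (PBasic.eq_one_of_isPGroup_of_coprime h' (mem_Cz.2 hp.comm.eq)
    (Nat.coprime_two_right.2 hp.odd))

section four

variable {x : G} {k : ℕ} (hxC : x ∈ Cz t) (hxo : orderOf x = 2 ^ (k + 2))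
  (hgen : ∀ y ∈ Cz t, ∃ i : ℤ, (x ^ i)⁻¹ * y ∈ Cz a)
  (hfree : ∀ w ∈ Subgroup.zpowers x, w ∈ Cz a → w = 1)
include hxC hxo hgen hfree

theorem u_order : orderOf (x ^ 2 ^ (k + 1)) = 2 := by
  rw [orderOf_pow' x (by positivity), hxo, Nat.gcd_eq_right (pow_dvd_pow 2 (Nat.le_succ _)),
    Nat.pow_div (Nat.le_succ _) two_pos, show k + 2 - (k + 1) = 1 by omega, pow_one]

theorem exp_two {c : G} (hc : c ∈ Cz a) (hc2 : ∃ j, orderOf c = 2 ^ j) : c = 1 ∨ c = t := by
  obtain ⟨j, hj⟩ := hc2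
  rcases j with _ | _ | j
  · exact Or.inl (orderOf_eq_one_iff.1 hj)
  · exact Or.inr (hp.no_twin hna h (by simpa using hj) hc)
  exfalso
  set y := c ^ 2 ^ j with hy
  have hy4 : orderOf y = 4 := by
    rw [hy, orderOf_pow' c (by positivity), hj, Nat.gcd_eq_right (pow_dvd_pow 2 (by omega)),
      Nat.pow_div (by omega) two_pos, show j + 1 + 1 - j = 2 by omega]
    norm_num
  have hya : y ∈ Cz a := pow_mem hc _
  have hy2 : y ^ 2 = t := hp.no_twin hna h (by
    rw [orderOf_pow' y two_ne_zero, hy4]; norm_num) (pow_mem hya 2)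
  have htz : t ∈ Subgroup.zpowers y := hy2 ▸ pow_mem (Subgroup.mem_zpowers y) 2
  have hsq : (x * x) * y = y * (x * x) := by
    obtain ⟨i, hi⟩ := conj_mem h hp.ht htz hxC
    simp only at hi
    have e : x * x * y * (x * x)⁻¹ = y ^ (i * i) := by
      calc x * x * y * (x * x)⁻¹ = x * (x * y * x⁻¹) * x⁻¹ := by group
        _ = x * y ^ i * x⁻¹ := by rw [hi]
        _ = (x * y * x⁻¹) ^ i := (map_zpow (MulAut.conj x) y i)
        _ = y ^ (i * i) := by rw [← hi, ← zpow_mul]
    rw [← mul_inv_eq_iff_eq_mul, e]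
    conv_rhs => rw [← zpow_one y]
    rw [zpow_eq_zpow_iff_modEq, hy4]
    rcases Int.even_or_odd' i with ⟨r, rfl | rfl⟩
    · exfalso
      have h1 : orderOf (y ^ (2 * r)) = 4 := by
        rw [hi, Invol.order_conj, hy4]
      have h2 : (y ^ (2 * r)) ^ 2 = 1 := by
        rw [← zpow_natCast, ← zpow_mul, ← orderOf_dvd_iff_zpow_eq_one, hy4]
        exact ⟨r, by push_cast; ring⟩
      have := orderOf_dvd_of_pow_eq_one h2
      rw [h1] at this
      norm_num at this
    · exact (Int.modEq_iff_dvd.2 ⟨-(r * r + r), by push_cast; ring⟩)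
  set u := x ^ 2 ^ (k + 1) with hu
  have hcu : Commute u y := by
    rw [hu, pow_succ', pow_mul, pow_two]
    exact (show Commute (x * x) y from hsq).pow_left _
  have huo := hp.u_order hna h hxC hxo hgen hfree
  rw [← hu] at huo
  have hyu : (y * u) ^ 2 = t := by
    rw [hcu.symm.mul_pow, hy2, pow_two u, mul_self huo, mul_one]
  have := hp.mem_of_invol h hp.ht (x := y * u) (hyu ▸ pow_mem (Subgroup.mem_zpowers _) 2) hp.mem_Cza
  exact ne_one huo (hfree u (pow_mem (Subgroup.mem_zpowers x) _)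
    ((Subgroup.mul_mem_cancel_left _ hya).1 this))

theorem false_of_four (hcase : CentralTwo G ∨ ∃ T : Sylow 2 G, (T : Subgroup G) ≤ Cz t) :
    False := by
  haveI : Fact (Nat.Prime 2) := ⟨Nat.prime_two⟩
  obtain ⟨T, hxT', hTodd⟩ := exists_sylow_ge (Q := Subgroup.zpowers x) (H := Cz t)
    (IsPGroup.of_card (n := k + 2) (by rw [Nat.card_zpowers, hxo])) (Subgroup.zpowers_le.2 hxC)
  have hxT : x ∈ (T : Subgroup G) := hxT' (Subgroup.mem_zpowers x)
  have htT : t ∈ (T : Subgroup G) := t_mem hp.ht hTodd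
  have htx : Commute t x := (mem_Cz.1 hxC : Commute x t).symm
  set u := x ^ 2 ^ (k + 1) with hu
  have huo : orderOf u = 2 := hp.u_order hna h hxC hxo hgen hfree
  have hux : u ∈ Subgroup.zpowers x := pow_mem (Subgroup.mem_zpowers x) _
  have hut : u ≠ t := fun e => ne_one huo (hfree u hux (e ▸ hp.mem_Cza))
  have hform : ∀ y ∈ (T : Subgroup G), y ∈ Cz t → ∃ i : ℤ, y = x ^ i ∨ y = x ^ i * t := by
    intro y hyT hyC
    obtain ⟨i, hi⟩ := hgen y hyC
    have hmem : (x ^ i)⁻¹ * y ∈ (T : Subgroup G) := mul_mem (inv_mem (zpow_mem hxT i)) hyT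
    obtain ⟨j, hj⟩ := (IsPGroup.iff_orderOf.1 T.isPGroup') ⟨_, hmem⟩
    rw [Subgroup.orderOf_mk] at hj
    refine ⟨i, ?_⟩
    rcases hp.exp_two hna h hxC hxo hgen hfree hi ⟨j, hj⟩ with e | e
    · exact Or.inl (inv_mul_eq_one.1 e).symm
    · exact Or.inr (inv_mul_eq_iff_eq_mul.1 e)
  have hsq : ∀ y ∈ (T : Subgroup G), y ∈ Cz t → y * y ∈ Subgroup.zpowers x := by
    intro y hyT hyC
    obtain ⟨i, rfl | rfl⟩ := hform y hyT hyC
    · exact mul_mem (zpow_mem (Subgroup.mem_zpowers x) i) (zpow_mem (Subgroup.mem_zpowers x) i)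
    · rw [show x ^ i * t * (x ^ i * t) = x ^ i * (t * x ^ i) * t by group, (htx.zpow_right i).eq,
        show x ^ i * (x ^ i * t) * t = x ^ i * x ^ i * (t * t) by group, mul_self hp.ht, mul_one]
      exact mul_mem (zpow_mem (Subgroup.mem_zpowers x) i) (zpow_mem (Subgroup.mem_zpowers x) i)
  set e := x ^ 2 ^ k with he
  have hee : e ^ 2 = u := by rw [he, hu, ← pow_mul, ← pow_succ]
  have heT : e ∈ (T : Subgroup G) := pow_mem hxT _
  have heC : e ∈ Cz t := pow_mem hxC _
  by_cases hTt : (T : Subgroup G) ≤ Cz t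
  · -- an abelian Sylow subgroup
    obtain ⟨m, hm⟩ := Nat.odd_iff.2 (Nat.two_dvd_ne_zero.1 T.not_dvd_index)
    have htn : t ∉ Subgroup.zpowers x := fun e' => ne_one hp.ht (hfree t e' hp.mem_Cza)
    have hPa : Nat.card ((T : Subgroup G) ⊓ Cz a : Subgroup G) = 2 := by
      have e' : (T : Subgroup G) ⊓ Cz a = Subgroup.zpowers t := by
        refine le_antisymm (fun y hy => ?_) (Subgroup.zpowers_le.2 ⟨htT, hp.mem_Cza⟩)
        obtain ⟨j, hj⟩ := (IsPGroup.iff_orderOf.1 T.isPGroup') ⟨y, hy.1⟩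
        rw [Subgroup.orderOf_mk] at hj
        rcases hp.exp_two hna h hxC hxo hgen hfree hy.2 ⟨j, hj⟩ with e' | e'
        · exact e' ▸ one_mem _
        · exact e' ▸ Subgroup.mem_zpowers t
      rw [e', Nat.card_zpowers, hp.ht]
    have hd : hp.d h = 2 ^ (k + 2) := by
      obtain ⟨x', hx'C, ⟨j, hj⟩, hx'd, hgen', hfree'⟩ := hp.exists_gen h
      -- the two generators have the same order
      have h1 : Nat.card (Subgroup.zpowers (hp.act h ⟨x, hxC⟩)) = 2 ^ (k + 2) := by
        rw [Nat.card_zpowers, ← hxo]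
        refine Nat.dvd_antisymm ?_ ?_
        · have := orderOf_map_dvd (hp.act h) (⟨x, hxC⟩ : Cz t)
          rwa [Subgroup.orderOf_mk] at this
        · refine orderOf_dvd_of_pow_eq_one (hfree _ (pow_mem (Subgroup.mem_zpowers x) _)
            ((hp.act_eq_one h (⟨x, hxC⟩ ^ orderOf (hp.act h ⟨x, hxC⟩))).1 ?_))
          rw [map_pow, pow_orderOf_eq_one]
      rw [d, ← h1]
      congr 1
      have e' : (hp.act h).range = Subgroup.zpowers (hp.act h ⟨x, hxC⟩) := by
        refine le_antisymm ?_ (Subgroup.zpowers_le.2 ⟨_, rfl⟩)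
        rintro _ ⟨y, rfl⟩
        obtain ⟨i, hi⟩ := hgen y y.2
        refine ⟨i, ?_⟩
        have := (hp.act_eq_one h ((⟨x, hxC⟩ ^ i)⁻¹ * y)).2 hi
        rw [map_mul, map_inv, inv_mul_eq_one, map_zpow] at this
        exact this
      rw [e']
    have hidx : (Subgroup.zpowers x).index = 2 ^ (0 + 1) * (2 * m + 1) := by
      have h1 := hp.card_eq h hTt (fun hd' => T.not_dvd_index
        (hd'.trans (Dvd.intro _ (Subgroup.relIndex_mul_index hTt))))
      rw [hPa, hd] at h1
      have h2 : (Subgroup.zpowers x).index * Nat.card (Subgroup.zpowers x) =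
          (T : Subgroup G).index * Nat.card (T : Subgroup G) := by
        rw [Subgroup.index_mul_card, Subgroup.index_mul_card]
      rw [h1, show (T : Subgroup G).index = 2 * m + 1 from hm, Nat.card_zpowers, hxo] at h2
      exact Nat.eq_of_mul_eq_mul_right (Nat.two_pow_pos (k + 2)) (h2.trans (by ring))
    obtain ⟨g, hg⟩ := exists_conj_mem hna _ (u := t) (k := 0) hp.ht ⟨m, rfl⟩ hidx
    rw [pow_zero, pow_one] at hg
    have hgu : g⁻¹ * t * g = u := by
      refine invol_unique ?_ huo hg hux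
      have := order_conj g⁻¹ t
      rw [inv_inv] at this
      rw [this, hp.ht]
    have hcomm : ∀ y ∈ (T : Subgroup G), Commute y u := by
      intro y hy
      obtain ⟨i, rfl | rfl⟩ := hform y hy (hTt hy)
      · exact ((Commute.refl x).zpow_left i).pow_right _
      · exact Commute.mul_left (((Commute.refl x).zpow_left i).pow_right _) (htx.pow_right _)
    obtain ⟨n, hn, hnu⟩ := T.conj_eq_normalizer_conj_of_mem_centralizer t g
      (Subgroup.mem_centralizer_iff.2 fun y hy => mem_Cz.1 (hTt hy))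
      (hgu ▸ Subgroup.mem_centralizer_iff.2 fun y hy => (hcomm y hy).eq)
    rw [hgu] at hnu
    have hsqt : (n * e * n⁻¹) ^ 2 = t := by
      rw [_root_.conj_pow, hee, hnu]; group
    have hnT : n * e * n⁻¹ ∈ (T : Subgroup G) := (Subgroup.mem_normalizer_iff.1 hn e).1 heT
    have hna' : n * e * n⁻¹ ∈ Cz a := hp.mem_of_invol h hp.ht
      (hsqt ▸ pow_mem (Subgroup.mem_zpowers _) 2) hp.mem_Cza
    obtain ⟨j, hj⟩ := (IsPGroup.iff_orderOf.1 T.isPGroup') ⟨_, hnT⟩
    rw [Subgroup.orderOf_mk] at hj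
    rcases hp.exp_two hna h hxC hxo hgen hfree hna' ⟨j, hj⟩ with e' | e'
    · rw [e', one_pow] at hsqt; exact ne_one hp.ht hsqt.symm
    · rw [e', pow_two, mul_self hp.ht] at hsqt; exact ne_one hp.ht hsqt.symm
  -- `t` is not central
  have hcen : CentralTwo G := hcase.resolve_right fun ⟨T₀, hT₀⟩ => hTt (le_of_central hT₀ hTodd)
  obtain ⟨g, hgT, hgC, hgn⟩ := exists_normalizer_step hTt
  have hinvol : ∀ y ∈ (T : Subgroup G), y ∈ Cz t → orderOf y = 2 → y = t ∨ y = u ∨ y = u * t := by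
    intro y hyT hyC hy
    obtain ⟨i, rfl | rfl⟩ := hform y hyT hyC
    · exact Or.inr (Or.inl (invol_unique hy huo (zpow_mem (Subgroup.mem_zpowers x) i) hux))
    · by_cases hi : x ^ i = 1
      · exact Or.inl (by rw [hi, one_mul])
      refine Or.inr (Or.inr ?_)
      rw [invol_unique (order_two_of_sq ?_ hi) huo (zpow_mem (Subgroup.mem_zpowers x) i) hux]
      have h1 := mul_self hy
      rwa [show x ^ i * t * (x ^ i * t) = x ^ i * (t * x ^ i) * t by group, (htx.zpow_right i).eq,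
        show x ^ i * (x ^ i * t) * t = x ^ i * x ^ i * (t * t) by group, mul_self hp.ht,
        mul_one] at h1
  have hgu : g * u * g⁻¹ = u := by
    refine invol_unique ((order_conj g u).trans huo) huo ?_ hux
    rw [← hee, ← _root_.conj_pow, pow_two]
    exact hsq _ (hgn e ⟨heT, heC⟩).1 (hgn e ⟨heT, heC⟩).2
  have hgt : g * t * g⁻¹ = u * t := by
    have h1 := hgn t ⟨htT, self_mem_Cz t⟩
    rcases hinvol _ h1.1 h1.2 ((order_conj g t).trans hp.ht) with e' | e' | e'
    · exact absurd (mem_Cz'.2 e') hgC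
    · exact absurd (mul_left_cancel (mul_right_cancel (e'.trans hgu.symm))) (Ne.symm hut)
    · exact e'
  have hutP : ¬ IsPGroup 2 (Cz (u * t)) := hgt ▸ not_pGroup_conj g (hp.not_pGroup hna h)
  -- `u` is central
  haveI : Nontrivial (T : Subgroup G) :=
    ⟨⟨⟨t, htT⟩, 1, fun e' => ne_one hp.ht (congrArg Subtype.val e')⟩⟩
  obtain ⟨z, hzc, hzo⟩ := CentFour.exists_central_involution T.isPGroup'
  have hzo' : orderOf (z : G) = 2 := by rw [Subgroup.orderOf_coe, hzo]
  have hTz : (T : Subgroup G) ≤ Cz (z : G) := fun y hy =>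
    mem_Cz.2 (congrArg Subtype.val (Subgroup.mem_center_iff.1 hzc ⟨y, hy⟩))
  have hTu : (T : Subgroup G) ≤ Cz u := by
    rcases hinvol z z.2 (mem_Cz_symm.1 (hTz htT)) hzo' with e' | e' | e'
    · exact absurd (e' ▸ hTz) hTt
    · exact e' ▸ hTz
    · exfalso
      exact hutP (e' ▸ hcen T z hzo' hTz)
  have hCu : Cz u = (T : Subgroup G) := T.is_maximal' (hcen T u huo hTu) hTu
  have hee4 : orderOf e = 4 := by
    rw [he, orderOf_pow' x (by positivity), hxo, Nat.gcd_eq_right (pow_dvd_pow 2 (by omega)),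
      Nat.pow_div (by omega) two_pos, show k + 2 - k = 2 by omega]
    norm_num
  have hte : Commute t e := htx.pow_right _
  have heu : u ∈ Subgroup.zpowers e := hee ▸ pow_mem (Subgroup.mem_zpowers e) 2
  have hc2 : (e * t) ^ 2 = u := by rw [hte.symm.mul_pow, hee, pow_two t, mul_self hp.ht, mul_one]
  have hcu : u ∈ Subgroup.zpowers (e * t) := hc2 ▸ pow_mem (Subgroup.mem_zpowers _) 2
  have hfour : ∀ c : G, c ^ 2 = u → ∀ q ∈ Subgroup.zpowers c, q ^ 2 ≠ 1 → q = c ∨ q = c⁻¹ := by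
    intro c hc q hq hq2
    obtain ⟨i, rfl⟩ := hq
    have hc4 : c ^ (4 : ℤ) = 1 := by
      rw [show (4 : ℤ) = ((2 : ℕ) : ℤ) * (2 : ℕ) by norm_num, zpow_mul, zpow_natCast, zpow_natCast, hc,
        pow_two, mul_self huo]
    rcases (show i % 4 = 0 ∨ i % 4 = 1 ∨ i % 4 = 2 ∨ i % 4 = 3 by omega) with r | r | r | r
    all_goals
      have hred : c ^ i = c ^ (i % 4) := by
        conv_lhs => rw [← Int.emod_add_mul_ediv i 4, zpow_add, zpow_mul, hc4, one_zpow, mul_one]
      simp only at hq2 ⊢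
      rw [hred, r] at hq2 ⊢
    · exact absurd (by simp) hq2
    · exact Or.inl (zpow_one c)
    · exfalso
      refine hq2 ?_
      rw [← zpow_natCast, ← zpow_mul]
      exact hc4
    · refine Or.inr (eq_inv_of_mul_eq_one_left ?_)
      rw [← zpow_add_one]
      exact hc4
  have hmove : ∀ g' ∈ (T : Subgroup G), g' * t * g'⁻¹ = t ∨ g' * t * g'⁻¹ = u * t := by
    intro g' hg'
    have hg'u : g' ∈ Cz u := hTu hg'
    have hne : ∀ c : G, c ^ 2 = u → (g' * c * g'⁻¹) ^ 2 ≠ 1 := fun c hc h1 => by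
      rw [_root_.conj_pow, hc, conj_eq_one_iff] at h1
      exact ne_one huo h1
    have h1 := hfour e hee _ (conj_mem h huo heu hg'u) (hne e hee)
    have h2 := hfour (e * t) hc2 _ (conj_mem h huo hcu hg'u) (hne _ hc2)
    have h3 : g' * t * g'⁻¹ = (g' * e * g'⁻¹)⁻¹ * (g' * (e * t) * g'⁻¹) := by group
    have hu' : u = e * e := by rw [← pow_two, hee]
    have hu'' : u = e⁻¹ * e⁻¹ := by rw [← mul_inv_rev, ← hu', inv_self huo]
    have hti : (e * t)⁻¹ = e⁻¹ * t := by
      rw [mul_inv_rev, inv_self hp.ht, ← hte.inv_right.eq]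
    rcases h1 with e1 | e1 <;> rcases h2 with e2 | e2 <;> rw [h3, e1, e2]
    · left; group
    · right; rw [hti, hu'']; group
    · right; rw [hu']; group
    · left; rw [hti]; group
  refine false_of_inZStar hna huo (BrauerSuzuki.zStar G u huo
    (BrauerSuzuki.isIsolated_of_sylow (P := T) huo (hTu.trans_eq rfl |> fun _ => pow_mem hxT _)
      fun g' hg' => ?_))
  by_contra hw
  set w := g' * u * g'⁻¹ with hwdef
  have hwo : orderOf w = 2 := (order_conj g' u).trans huo
  have hwP : IsPGroup 2 (Cz w) := by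
    rw [hwdef, ← Cz_map]
    exact (hcen T u huo hTu).map _
  by_cases hwt : w ∈ Cz t
  · rcases hinvol w hg' hwt hwo with e' | e' | e'
    · exact hp.not_pGroup hna h (e' ▸ hwP)
    · exact hw e'
    · exact hutP (e' ▸ hwP)
  have hwmove : w * t * w⁻¹ = u * t := (hmove w hg').resolve_left fun e' => hwt (mem_Cz'.2 e')
  obtain ⟨c, hcw, hc, hcT⟩ : ∃ c, Commute w c ∧ c ^ 2 = u ∧ c ∈ (T : Subgroup G) := by
    rcases hfour e hee _ (conj_mem h huo heu (hTu hg')) (fun h1 => by
      rw [_root_.conj_pow, hee, conj_eq_one_iff] at h1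
      exact ne_one huo h1) with e' | e'
    · exact ⟨e, mul_inv_eq_iff_eq_mul.1 e', hee, heT⟩
    · refine ⟨e * t, mul_inv_eq_iff_eq_mul.1 ?_, hc2, mul_mem heT htT⟩
      rw [show w * (e * t) * w⁻¹ = (w * e * w⁻¹) * (w * t * w⁻¹) by group, e', hwmove,
        show u = e * e by rw [← pow_two, hee]]
      group
  set D := (T : Subgroup G) ⊓ Cz w with hD
  have hDsq : ∀ y ∈ D, y * y ∈ Subgroup.zpowers x := by
    intro y hy
    by_cases hyt : y ∈ Cz t
    · exact hsq y hy.1 hyt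
    have hwy : w * y ∈ Cz t := by
      rw [mem_Cz']
      have e' : y * t * y⁻¹ = u * t := (hmove y hy.1).resolve_left fun e' => hyt (mem_Cz'.2 e')
      rw [show w * y * t * (w * y)⁻¹ = w * (y * t * y⁻¹) * w⁻¹ by group, e',
        show w * (u * t) * w⁻¹ = (w * u * w⁻¹) * (w * t * w⁻¹) by group, hwmove,
        mem_Cz'.1 (hTu hg'), ← mul_assoc, mul_self huo, one_mul]
    have := hsq _ (mul_mem hg' hy.1) hwy
    rwa [show w * y * (w * y) = w * (y * w) * y by group, (mem_Cz.1 hy.2 : y * w = w * y),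
      show w * (w * y) * y = w * w * (y * y) by group, mul_self hwo, one_mul] at this
  have hcard : Nat.card (Cz w) = Nat.card (T : Subgroup G) := by
    rw [hwdef, card_Cz_conj, hCu]
  by_cases hDw : Cz w ≤ (T : Subgroup G)
  · have hall := Subgroup.eq_of_le_of_card_ge hDw hcard.ge
    exact hwt (mem_Cz_symm.1 (hall.ge htT))
  -- `N(D)` inside `C(w)` fixes `u`
  haveI := hwP.isNilpotent
  have hlt : D.subgroupOf (Cz w) < ⊤ := lt_top_iff_ne_top.2 fun e' => hDw fun y hy =>
    (Subgroup.mem_subgroupOf.1 (show (⟨y, hy⟩ : Cz w) ∈ D.subgroupOf (Cz w) by rw [e']; trivial)).1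
  obtain ⟨q, hqN, hqD⟩ := SetLike.exists_of_lt (normalizerCondition_of_isNilpotent _ hlt)
  have hcD : c ∈ D := ⟨hcT, mem_Cz.2 hcw.symm.eq⟩
  have hqc : (q : G) * c * (q : G)⁻¹ ∈ D := Subgroup.mem_subgroupOf.1
    ((Subgroup.mem_normalizer_iff.1 hqN ⟨c, hcD.2⟩).1 (Subgroup.mem_subgroupOf.2 hcD))
  have hqu : (q : G) * u * (q : G)⁻¹ = u := by
    refine invol_unique ((order_conj _ u).trans huo) huo ?_ hux
    rw [← hc, ← _root_.conj_pow, pow_two]
    exact hDsq _ hqc
  exact hqD (Subgroup.mem_subgroupOf.2 ⟨hCu.le (mem_Cz'.2 hqu), q.2⟩)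

end four

/-- With two values and `t` not central. -/
theorem false_of_two (hd : hp.d h = 2) {T : Sylow 2 G}
    (hTodd : ¬ 2 ∣ ((T : Subgroup G) ⊓ Cz t).relIndex (Cz t)) (hTt : ¬ (T : Subgroup G) ≤ Cz t)
    (hcen : CentralTwo G) : False := by
  haveI : Fact (Nat.Prime 2) := ⟨Nat.prime_two⟩
  have htT : t ∈ (T : Subgroup G) := t_mem hp.ht hTodd
  obtain ⟨g, hgT, hgC, hgn⟩ := exists_normalizer_step hTt
  have hexp : ∀ y ∈ (T : Subgroup G), y ∈ Cz t → y * y = 1 := by
    intro y hyT hyC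
    by_contra hne
    have hya : y ∈ Cz a := by_contra fun e => hne (hp.outside hna h hd hyC e)
    obtain ⟨j, hj⟩ := (IsPGroup.iff_orderOf.1 T.isPGroup') ⟨y, hyT⟩
    rw [Subgroup.orderOf_mk] at hj
    obtain ⟨v, hv, hvy⟩ := exists_invol_zpowers (even_of_two_power ⟨j, hj⟩ (fun e => hne (by rw [e, one_mul])))
    have hvt : v = t := hp.no_twin hna h hv (Subgroup.zpowers_le.2 hya hvy)
    subst hvt
    have hy' := hgn y ⟨hyT, hyC⟩
    have hy'a : g * y * g⁻¹ ∈ Cz a := by_contra fun e => hne (by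
      have h1 := hp.outside hna h hd hy'.2 e
      rw [show g * y * g⁻¹ * (g * y * g⁻¹) = g * (y * y) * g⁻¹ by group, conj_eq_one_iff] at h1
      exact h1)
    have : g * v * g⁻¹ = v := hp.no_twin hna h ((order_conj g v).trans hv) (by
      obtain ⟨i, rfl⟩ := hvy
      show g * y ^ i * g⁻¹ ∈ Cz a
      rw [show g * y ^ i * g⁻¹ = (g * y * g⁻¹) ^ i from map_zpow (MulAut.conj g) y i]
      exact zpow_mem hy'a i)
    exact hgC (mem_Cz'.2 this)
  have h4 : Nat.card ((T : Subgroup G) ⊓ Cz t : Subgroup G) = 4 := by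
    have h1 := hp.card_eq h (P := (T : Subgroup G) ⊓ Cz t) inf_le_right hTodd
    rw [hd] at h1
    have e : (T : Subgroup G) ⊓ Cz t ⊓ Cz a = Subgroup.zpowers t := by
      refine le_antisymm (fun y hy => ?_)
        (Subgroup.zpowers_le.2 ⟨⟨htT, self_mem_Cz t⟩, hp.mem_Cza⟩)
      by_cases hy1 : y = 1
      · rw [hy1]; exact one_mem _
      rw [hp.no_twin hna h (order_two_of_sq (hexp y hy.1.1 hy.1.2) hy1) hy.2]
      exact Subgroup.mem_zpowers t
    rwa [e, Nat.card_zpowers, hp.ht] at h1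
  -- the centraliser of `t` in `T`
  have hcT : Nat.card (Subgroup.centralizer ({⟨t, htT⟩} : Set (T : Subgroup G))) = 4 := by
    rw [← h4]
    refine Nat.card_congr ⟨fun y => ⟨y.1.1, y.1.2, mem_Cz.2
      (congrArg Subtype.val (Subgroup.mem_centralizer_singleton_iff.1 y.2))⟩,
      fun y => ⟨⟨y.1, y.2.1⟩, Subgroup.mem_centralizer_singleton_iff.2 (Subtype.ext (mem_Cz.1 y.2.2))⟩,
      fun _ => rfl, fun _ => rfl⟩
  have h8 : 8 ≤ Nat.card (T : Subgroup G) := by
    obtain ⟨j, hj⟩ := IsPGroup.iff_card.1 T.isPGroup'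
    have hlt : Nat.card ((T : Subgroup G) ⊓ Cz t : Subgroup G) < Nat.card (T : Subgroup G) := by
      refine lt_of_le_of_ne (Subgroup.card_le_of_le inf_le_left) fun e => hTt ?_
      exact inf_eq_left.1 (Subgroup.eq_of_le_of_card_ge inf_le_left e.ge)
    rw [h4, hj] at hlt
    rw [hj]
    rcases j with _ | _ | _ | j
    all_goals try (norm_num at hlt)
    calc 8 = 2 ^ 3 := by norm_num
      _ ≤ 2 ^ (j + 1 + 1 + 1) := Nat.pow_le_pow_right two_pos (by omega)
  obtain ⟨c, hc⟩ := CentFour.exists_cyclic_index_two (T : Subgroup G) T.isPGroup' ⟨t, htT⟩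
    (by rw [Subgroup.orderOf_mk, hp.ht]) hcT h8
  set M := Subgroup.zpowers (c : G) with hM
  haveI hMn : (Subgroup.zpowers c).Normal := Subgroup.normal_of_index_eq_two hc
  have hfix : ∀ v : G, orderOf v = 2 → v ∈ M → (T : Subgroup G) ≤ Cz v := by
    intro v hv hvM y hy
    rw [mem_Cz']
    refine invol_unique ((order_conj y v).trans hv) hv ?_ hvM
    obtain ⟨i, rfl⟩ := hvM
    obtain ⟨r, hr⟩ := hMn.conj_mem (c ^ i) (zpow_mem (Subgroup.mem_zpowers c) i) ⟨y, hy⟩
    exact ⟨r, by simpa using congrArg Subtype.val hr⟩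
  obtain ⟨m, hm⟩ := Nat.odd_iff.2 (Nat.two_dvd_ne_zero.1 T.not_dvd_index)
  have hidx : M.index = 2 ^ (0 + 1) * (2 * m + 1) := by
    have e : M = (Subgroup.zpowers c).map (T : Subgroup G).subtype := by
      rw [MonoidHom.map_zpowers]; rfl
    rw [e, Subgroup.index_map_subtype, hc, hm, zero_add, pow_one]
  obtain ⟨g', hg'⟩ := exists_conj_mem hna M (u := t) (k := 0) hp.ht ⟨m, rfl⟩ hidx
  rw [pow_zero, pow_one] at hg'
  have ho : orderOf (g'⁻¹ * t * g') = 2 := by
    have := order_conj g'⁻¹ t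
    rw [inv_inv] at this
    rw [this, hp.ht]
  have h1 := not_pGroup_conj g'⁻¹ (hp.not_pGroup hna h)
  rw [inv_inv] at h1
  exact h1 (hcen T _ ho (hfix _ ho hg'))

end Pair

/-- Simple groups in which cyclic subgroups of even order share the normalisers of their
subgroups, outside the case of `2`-groups as centralisers of involutions. -/
theorem psl_or_cit [IsSimpleGroup G] (hna : ¬ IsMulCommutative G) (h : NC G) :
    CNSimple.CIT G ∨ ∃ (F : Type) (_ : Field F) (_ : Fintype F),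
      Odd (Fintype.card F) ∧ Nonempty (G ≃* Matrix.ProjectiveSpecialLinearGroup (Fin 2) F) := by
  haveI : Fact (Nat.Prime 2) := ⟨Nat.prime_two⟩
  by_cases hcen : CentralTwo G
  · refine Or.inl fun t ht => by_contra fun hnp => ?_
    obtain ⟨a, hp⟩ := exists_pair ht hnp
    rcases hp.d_two_or hna h with hd | ⟨k, hk⟩
    · obtain ⟨T, hT⟩ := exists_sylow (Cz t)
      exact hp.false_of_two hna h hd hT (fun hle => hnp (hcen T t ht hle)) hcen
    · obtain ⟨x, hxC, -, hxd, hgen, hfree⟩ := hp.exists_gen h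
      exact hp.false_of_four hna h hxC (hxd.trans hk) hgen hfree (Or.inl hcen)
  · simp only [CentralTwo, not_forall] at hcen
    obtain ⟨T, t, ht, hTt, hnp⟩ := hcen
    obtain ⟨a, hp⟩ := exists_pair ht hnp
    rcases hp.d_two_or hna h with hd | ⟨k, hk⟩
    · obtain ⟨s, hs⟩ := hp.bsw hna h hd T hTt
      exact Or.inr (BSW.psl_of_goal hna (BSW.main hs))
    · obtain ⟨x, hxC, -, hxd, hgen, hfree⟩ := hp.exists_gen h
      exact (hp.false_of_four hna h hxC (hxd.trans hk) hgen hfree (Or.inr ⟨T, hTt⟩)).elim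

end Cfsg.Agent.NormCyc
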