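import Cfsg.Agent.Lib.NormCyclic.Twin
import Cfsg.Agent.Lib.CNSimple.Final
import Cfsg.Agent.Lib.BSW.Zass
import Cfsg.Agent.Lib.TwoGroups.CentFour
import Cfsg.Agent.Lib.BrauerSuzuki.ZStar
import Cfsg.Agent.Lib.BrauerSuzuki.Main
import Cfsg.Agent.Lib.DGroup.MainPSL

/-!
The simple groups in which cyclic subgroups of even order share the normalisers of their subgroups.
-/

set_option autoImplicit false
set_option linter.style.haveILetI false
set_option linter.unusedSectionVars false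

namespace Cfsg.Agent.NormCyc

open Cfsg.Agent.Invol Cfsg.Agent.BSW

universe u

variable {G : Type u} [Group G] [Finite G] [IsSimpleGroup G]

namespace Pair

variable {t a : G} (hp : Pair t a) (hna : ¬ IsMulCommutative G) (h : NC G)
include hp hna h

/-- An involution other than `t` centralises no element of odd order in `C(t)`. -/
theorem inv_odd {w b : G} (hw : orderOf w = 2) (hwt : w ≠ t) (hb : Odd (orderOf b))
    (hbw : Commute b w) (hbt : Commute b t) : b = 1 := by
  by_contra hb1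
  have e := Cz_eq h hw hp.ht hbw hbt hb hb1
  have : a ∈ Cz w := e ▸ mem_Cz.2 hp.comm.eq
  exact hwt (hp.no_twin hna h hw (mem_Cz_symm.1 this))

theorem outside (hd : hp.d h = 2) {y : G} (hy : y ∈ Cz t) (hya : y ∉ Cz a) : y * y = 1 := by
  haveI : Fact (Nat.Prime 2) := ⟨Nat.prime_two⟩
  have key : ∀ z ∈ Cz t, z * z ∈ Cz a := by
    intro z hz
    have h1 : (⟨_, (⟨z, hz⟩ : Cz t), rfl⟩ : (hp.act h).range) ^ 2 = 1 := by
      rw [← hd]; exact pow_card_eq_one'
    have h2 := congrArg Subtype.val h1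
    simp only [SubmonoidClass.coe_pow, OneMemClass.coe_one] at h2
    have := (hp.act_eq_one h (⟨z, hz⟩ ^ 2)).1 (by rw [map_pow]; exact h2)
    simpa [pow_two] using this
  obtain ⟨v, b, hvb, hv, hb, hk, hbo⟩ := PBasic.exists_pPart_mul (p := 2) y
  have hvC : v ∈ Cz t := Subgroup.zpowers_le.2 hy hv
  have hbC : b ∈ Cz t := Subgroup.zpowers_le.2 hy hb
  have hbodd : Odd (orderOf b) := Nat.coprime_two_right.1 hbo
  have hva : v ∉ Cz a := fun e => hya (hvb ▸ mul_mem e (hp.odd_mem h hbC hbodd))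
  have hvv : v * v = 1 := by
    by_contra hne
    obtain ⟨k, hk⟩ := hk
    have hk2 : ∃ j, orderOf (v * v) = 2 ^ j := by
      obtain ⟨j, -, hj⟩ := (Nat.dvd_prime_pow Nat.prime_two).1
        (hk ▸ orderOf_dvd_of_mem_zpowers (mul_mem (Subgroup.mem_zpowers v) (Subgroup.mem_zpowers v)))
      exact ⟨j, hj⟩
    obtain ⟨z, hz, hzv⟩ := exists_invol_zpowers (even_of_two_power hk2 hne)
    exact hva (hp.mem_of_invol h hz
      (Subgroup.zpowers_le.2 (mul_mem (Subgroup.mem_zpowers v) (Subgroup.mem_zpowers v)) hzv)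
      (Subgroup.zpowers_le.2 (key v hvC) hzv))
  have hv2 : orderOf v = 2 := order_two_of_sq hvv fun e => hva (e ▸ one_mem _)
  have hb1 : b = 1 := by
    refine hp.inv_odd hna h hv2 (fun e => hva (e ▸ hp.mem_Cza)) hbodd ?_ (mem_Cz.1 hbC)
    obtain ⟨i, rfl⟩ := hv
    obtain ⟨j, rfl⟩ := hb
    exact (Commute.refl y).zpow_zpow j i
  rw [← hvb, hb1, mul_one, hvv]

/-- Every involution of a Sylow intersection centralising `a` is `t`; in particular the action on
`a` is non-trivial. -/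
theorem d_ne_one : hp.d h ≠ 1 := by
  haveI : Fact (Nat.Prime 2) := ⟨Nat.prime_two⟩
  intro hd
  obtain ⟨T, hT⟩ := exists_sylow (Cz t)
  have hPa : (T : Subgroup G) ⊓ Cz t ≤ Cz a := by
    have h1 := hp.card_eq h (P := (T : Subgroup G) ⊓ Cz t) inf_le_right hT
    rw [hd, mul_one] at h1
    exact inf_eq_left.1 (Subgroup.eq_of_le_of_card_ge inf_le_left h1.le)
  have hTt : (T : Subgroup G) ≤ Cz t := by
    have htT : t ∈ (T : Subgroup G) := by
      have hn : Subgroup.zpowers t ≤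
          Subgroup.normalizer ((((T : Subgroup G) ⊓ Cz t : Subgroup G)) : Set G) := by
        rw [Subgroup.zpowers_le]
        exact Subgroup.centralizer_le_normalizer _
          (Subgroup.mem_centralizer_iff.2 fun g hg => (mem_Cz.1 hg.2))
      have := eq_of_odd_relIndex (IsPGroup.to_sup_of_normal_right'
        (IsPGroup.of_card (n := 1) (by rw [Nat.card_zpowers, hp.ht, pow_one]))
        (T.isPGroup'.to_le inf_le_left) hn) le_sup_right
        (sup_le (Subgroup.zpowers_le.2 (self_mem_Cz t)) inf_le_right) hT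
      exact (this.le (Subgroup.mem_sup_left (Subgroup.mem_zpowers t))).1
    haveI : Nontrivial (T : Subgroup G) := ⟨⟨⟨t, htT⟩, 1, fun e => ne_one hp.ht (congrArg Subtype.val e)⟩⟩
    obtain ⟨z, hzc, hzo⟩ := CentFour.exists_central_involution T.isPGroup'
    have hzt : (z : G) ∈ Cz t :=
      mem_Cz.2 (congrArg Subtype.val (Subgroup.mem_center_iff.1 hzc ⟨t, htT⟩)).symm
    have hze : (z : G) = t := hp.no_twin hna h (by rw [Subgroup.orderOf_coe, hzo]) (hPa ⟨z.2, hzt⟩)
    intro g hg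
    rw [mem_Cz, ← hze]
    exact congrArg Subtype.val (Subgroup.mem_center_iff.1 hzc ⟨g, hg⟩)
  rw [inf_eq_left.2 hTt] at hPa
  have hR : BrauerSuzuki.RankOne G := BrauerSuzuki.rankOne_of_sylow T fun x y hx hy => Subtype.ext
    ((hp.no_twin hna h (by rw [Subgroup.orderOf_coe, hx]) (hPa x.2)).trans
      (hp.no_twin hna h (by rw [Subgroup.orderOf_coe, hy]) (hPa y.2)).symm)
  exact false_of_inZStar hna hp.ht (BrauerSuzuki.inZStar G hR t hp.ht)

theorem d_two_or : hp.d h = 2 ∨ ∃ k, hp.d h = 2 ^ (k + 2) := by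
  obtain ⟨x, -, ⟨k, hk⟩, hxd, -, -⟩ := hp.exists_gen h
  rcases k with _ | _ | k
  · exact absurd (hxd ▸ hk) (hp.d_ne_one hna h)
  · exact Or.inl (hxd ▸ hk)
  · exact Or.inr ⟨k, hxd ▸ hk⟩

/-- With a Sylow subgroup inside `C(t)` and two-valued action the theorem of Brauer, Suzuki and
Wall applies. -/
theorem bsw (hd : hp.d h = 2) (T : Sylow 2 G) (hT : (T : Subgroup G) ≤ Cz t) :
    ∃ s, BSW.Hyp t (Cz a) s := by
  haveI : Fact (Nat.Prime 2) := ⟨Nat.prime_two⟩
  obtain ⟨s, hsC, -, hso, hgen, hfree⟩ := hp.exists_gen h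
  rw [hd] at hso
  have hsa : s ∉ Cz a := fun e => ne_one hso (hfree s (Subgroup.mem_zpowers s) e)
  have hinv : ∀ k ∈ Cz a, s * k * s⁻¹ = k⁻¹ := by
    intro k hk
    have h1 := hp.outside hna h hd (mul_mem hsC (hp.le h hk))
      fun e => hsa ((Subgroup.mul_mem_cancel_right _ hk).1 e)
    rw [inv_self hso]
    exact eq_inv_of_mul_eq_one_left (by rw [mul_assoc (s * k)]; exact h1)
  have hcomm : ∀ x ∈ Cz a, ∀ y ∈ Cz a, x * y = y * x := by
    intro x hx y hy
    have e := hinv (x * y) (mul_mem hx hy)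
    rw [show s * (x * y) * s⁻¹ = (s * x * s⁻¹) * (s * y * s⁻¹) by group, hinv x hx, hinv y hy,
      mul_inv_rev] at e
    have := congrArg (·⁻¹) e
    simp only [mul_inv_rev, inv_inv] at this
    exact this.symm
  have hTodd : ¬ 2 ∣ (T : Subgroup G).relIndex (Cz t) := fun hd' =>
    T.not_dvd_index (hd'.trans (Dvd.intro _ (Subgroup.relIndex_mul_index hT)))
  obtain ⟨m, hm⟩ := Nat.odd_iff.2 (Nat.two_dvd_ne_zero.1 T.not_dvd_index)
  have hidx : ((T : Subgroup G) ⊓ Cz a).index = 2 ^ (0 + 1) * (2 * m + 1) := by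
    have h1 := hp.card_eq h hT hTodd
    rw [hd] at h1
    have h2 : ((T : Subgroup G) ⊓ Cz a).index * Nat.card ((T : Subgroup G) ⊓ Cz a : Subgroup G) =
        (T : Subgroup G).index * Nat.card (T : Subgroup G) := by
      rw [Subgroup.index_mul_card, Subgroup.index_mul_card]
    rw [h1, show (T : Subgroup G).index = 2 * m + 1 from hm] at h2
    exact Nat.eq_of_mul_eq_mul_right Nat.card_pos (h2.trans (by ring))
  have hall : ∀ u : G, orderOf u = 2 → IsConj t u := by
    intro u hu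
    obtain ⟨g, hg⟩ := exists_conj_mem hna _ (u := u) (k := 0) hu ⟨m, rfl⟩ hidx
    rw [pow_zero, pow_one] at hg
    have e := hp.no_twin hna h (u := g⁻¹ * u * g) (by
      have := order_conj g⁻¹ u
      rw [inv_inv] at this
      rw [this, hu]) hg.2
    exact isConj_iff.2 ⟨g, by rw [← e]; group⟩
  have hnorm : ∀ k ∈ Cz a, k ≠ 1 → Subgroup.normalizer (Subgroup.zpowers k : Set G) = Cz t := by
    intro k hk hk1
    rcases Nat.even_or_odd (orderOf k) with he | ho
    · obtain ⟨v, hv, hvk⟩ := exists_invol_zpowers he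
      obtain rfl := hp.no_twin hna h hv (Subgroup.zpowers_le.2 hk hvk)
      exact norm_eq h hv hvk (Subgroup.mem_zpowers k) hk1
    · exact norm_odd h hp.ht (mem_Cz.1 (hp.le h hk)) ho hk1
  refine ⟨s, hp.ht, hcomm, hp.le h, hp.mem_Cza, hso, hsC, hsa, ?_, ?_, hinv, ?_, fun x y hx hy =>
    (hall x hx).symm.trans (hall y hy)⟩
  · refine le_antisymm (sup_le (hp.le h) (Subgroup.zpowers_le.2 hsC)) fun y hy => ?_
    obtain ⟨i, hi⟩ := hgen y hy
    rw [show y = s ^ i * ((s ^ i)⁻¹ * y) by group]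
    exact mul_mem (Subgroup.mem_sup_right (zpow_mem (Subgroup.mem_zpowers s) i))
      (Subgroup.mem_sup_left hi)
  · refine le_antisymm (fun k hk => ?_) (Subgroup.zpowers_le.2 ⟨hp.mem_Cza, mem_Cz_symm.1 hsC⟩)
    have e := hinv k hk.1
    rw [mul_inv_eq_iff_eq_mul.2 (mem_Cz_symm.1 hk.2 |> mem_Cz.1)] at e
    by_cases hk1 : k = 1
    · rw [hk1]; exact one_mem _
    rw [hp.no_twin hna h (order_two_of_sq (eq_inv_iff_mul_eq_one.1 e) hk1) hk.1]
    exact Subgroup.mem_zpowers t
  · intro g hg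
    rw [Subgroup.eq_bot_iff_forall]
    rintro x ⟨hxK, k, hk, rfl⟩
    by_contra hx1
    have hk1 : k ≠ 1 := fun e => hx1 (by rw [e, map_one])
    have h1 : ∀ y : G, y ∈ Cz t ↔ g * y * g⁻¹ ∈ Cz t := by
      intro y
      have e : Subgroup.map (MulAut.conj g).toMonoidHom (Cz t) = Cz t := by
        conv_rhs => rw [← hnorm _ hxK hx1, ← MonoidHom.map_zpowers,
          ← Subgroup.map_normalizer_eq_of_bijective _ (MulAut.conj g).bijective]
        rw [hnorm k hk hk1]
      exact ⟨fun hy => e.le ⟨y, hy, rfl⟩, fun hy => by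
        obtain ⟨z, hz, hze⟩ := e.ge hy
        rwa [← (MulAut.conj g).injective (hze : MulAut.conj g z = MulAut.conj g y)]⟩
    have ht' : g * t * g⁻¹ ∈ Cz t := (h1 t).1 (self_mem_Cz t)
    have hta : g * t * g⁻¹ ∈ Cz a := by
      have ha' : g⁻¹ * a * g ∈ Cz t := (h1 _).2 (by
        rw [show g * (g⁻¹ * a * g) * g⁻¹ = a by group]; exact mem_Cz.2 hp.comm.eq)
      rw [mem_Cz_symm]
      rwa [← conj_mem_Cz g, show g * (g⁻¹ * a * g) * g⁻¹ = a by group] at ha'
    exact hg (mem_Cz'.2 (hp.no_twin hna h ((order_conj g t).trans hp.ht) hta))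

end Pair

end Cfsg.Agent.NormCyc
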