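import Cfsg.Agent.Lib.NormCyclic.Pair
import Cfsg.Agent.Lib.CNSimple.TIMain

/-!
No two involutions of a simple group with shared normalisers centralise an element of odd order.
-/

set_option autoImplicit false
set_option linter.style.haveILetI false
set_option linter.unusedSectionVars false

namespace Cfsg.Agent.CNSimple.TIHyp

open MulAction

variable {G : Type*} [Group G] [Finite G]

/-- The good subgroup of a simple group is a `2`-group. -/
theorem isPGroup_two [IsSimpleGroup G] {K : Subgroup G} (h : TIHyp K) : IsPGroup 2 K := by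
  classical
  haveI := Fintype.ofFinite (G ⧸ h.N)
  haveI : Fact (Nat.Prime 2) := ⟨Nat.prime_two⟩
  obtain ⟨v, hv, hvN⟩ := h.exists_invol_not_mem
  set x₀ : G ⧸ h.N := ((1 : G) : G ⧸ h.N) with hx₀
  have hyx : v • x₀ ≠ x₀ := fun e => hvN (h.fix_base.1 e)
  have D : ZassKer.Ker x₀ (v • x₀) K := ZassSuz.ker_of_reg h.zassenhaus hyx.symm
    (fun a ha => mem_stabilizer_iff.2 (h.fix_base.2 (h.K_le_N ha)))
    (fun g hg a ha => h.conj_K (h.fix_base.1 hg) ha) fun p q hp hq => h.regular hp hq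
  obtain ⟨p, f, hp, hf, hpf⟩ := (isPrimePow_nat_iff _).mp D.isPrimePow
  have hp2 : p = 2 := ((Nat.prime_dvd_prime_iff_eq Nat.prime_two hp).mp
    (Nat.prime_two.dvd_of_dvd_pow (hpf ▸ h.even))).symm
  exact IsPGroup.of_card (n := f) (by rw [← hpf, hp2])

end Cfsg.Agent.CNSimple.TIHyp

namespace Cfsg.Agent.NormCyc

open Cfsg.Agent.Invol Cfsg.Agent.BSW

universe u

variable {G : Type u} [Group G] [Finite G] {t a : G}

namespace Pair

variable (hp : Pair t a)
include hp

/-- An involution outside `C(a)` centralises no element of odd order, if some other involution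
centralises `a`. -/
theorem nontwin (h : NC G) {v : G} (hv : orderOf v = 2) (hva : v ∈ Cz a) (hvt : v ≠ t) {w : G}
    (hw : orderOf w = 2) (hwt : w ∈ Cz t) (hwa : w ∉ Cz a) {b : G} (hb : Odd (orderOf b))
    (hbw : Commute b w) : b = 1 := by
  by_contra hb1
  obtain ⟨c, hc, hcp, hc2⟩ := exists_prime_zpowers hb hb1
  have hcw : Commute c w := by obtain ⟨i, rfl⟩ := hc; exact hbw.zpow_left i
  have hq : Pair w c := ⟨hw, hcw, hcp, hc2⟩
  have hCv := hp.Cz_eq_of_mem h hv hva
  have hvw : v ∈ Cz w := mem_Cz_symm.1 (hCv.symm ▸ hwt)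
  have htw : t ∈ Cz w := mem_Cz_symm.1 hwt
  have hvtc : Commute v t := mem_Cz.1 (hp.le h hva)
  have hsign : ∀ s : G, s * s = 1 → s ∈ Cz w → s * c * s⁻¹ = c ∨ s * c * s⁻¹ = c⁻¹ := by
    intro s hs hsw
    obtain ⟨i, hi⟩ := conj_mem_odd h hw hcw hq.odd hsw
    simp only at hi
    have h2 : c ^ (i * i - 1) = 1 := by
      rw [zpow_sub, zpow_one, zpow_mul, hi]
      have : (s * c * s⁻¹) ^ i = s * (c ^ i) * s⁻¹ := (map_zpow (MulAut.conj s) c i).symm
      rw [this, hi]
      calc s * (s * c * s⁻¹) * s⁻¹ * c⁻¹ = (s * s) * c * (s * s)⁻¹ * c⁻¹ := by group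
        _ = 1 := by rw [hs]; group
    have hd : (orderOf c : ℤ) ∣ i * i - 1 := orderOf_dvd_iff_zpow_eq_one.2 h2
    rw [show i * i - 1 = (i - 1) * (i + 1) by ring] at hd
    rcases (Nat.prime_iff_prime_int.1 hcp).dvd_or_dvd hd with hd | hd
    · left
      rw [orderOf_dvd_iff_zpow_eq_one, zpow_sub, zpow_one, mul_inv_eq_one] at hd
      rw [← hi, hd]
    · right
      rw [orderOf_dvd_iff_zpow_eq_one, zpow_add, zpow_one, mul_eq_one_iff_eq_inv] at hd
      rw [← hi, hd]
  have hkey : ∀ u : G, orderOf u = 2 → u ∈ Cz a → u * c * u⁻¹ = c → False := fun u hu hua huc => by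
    have huc' : Commute u c := mem_Cz.1 (mem_Cz'.2 huc)
    have e : Cz u = Cz w := Cz_eq h hu hw huc'.symm hcw hq.odd hq.a_ne
    rw [hp.Cz_eq_of_mem h hu hua] at e
    have : a ∈ Cz w := e ▸ mem_Cz.2 hp.comm.eq
    exact hwa (mem_Cz_symm.1 this)
  rcases hsign v (mul_self hv) hvw with e1 | e1
  · exact hkey v hv hva e1
  rcases hsign t (mul_self hp.ht) htw with e2 | e2
  · exact hkey t hp.ht hp.mem_Cza e2
  refine hkey (v * t) (order_two_of_sq ?_ fun e => hvt ?_) (mul_mem hva hp.mem_Cza) ?_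
  · calc v * t * (v * t) = v * (t * v) * t := by group
      _ = v * v * (t * t) := by rw [← hvtc.eq]; group
      _ = 1 := by rw [mul_self hv, mul_self hp.ht, mul_one]
  · rw [mul_eq_one_iff_eq_inv, inv_self hp.ht] at e; exact e
  · calc v * t * c * (v * t)⁻¹ = v * (t * c * t⁻¹) * v⁻¹ := by group
      _ = (v * c * v⁻¹)⁻¹ := by rw [e2]; group
      _ = c := by rw [e1, inv_inv]

/-- The involutions centralising `a`, with `1`. -/
def twins (h : NC G) : Subgroup G where
  carrier := {u | u ∈ Cz a ∧ u * u = 1}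
  one_mem' := ⟨one_mem _, one_mul 1⟩
  mul_mem' := fun {u v} hu hv => ⟨mul_mem hu.1 hv.1, by
    by_cases hu1 : u = 1
    · rw [hu1, one_mul, hv.2]
    have hc : Commute v u := by
      have := hp.le h hv.1
      rw [← hp.Cz_eq_of_mem h (order_two_of_sq hu.2 hu1) hu.1] at this
      exact mem_Cz.1 this
    calc u * v * (u * v) = u * (v * u) * v := by group
      _ = u * u * (v * v) := by rw [hc.eq]; group
      _ = 1 := by rw [hu.2, hv.2, one_mul]⟩
  inv_mem' := fun {u} hu => ⟨inv_mem hu.1, by rw [← mul_inv_rev, hu.2, inv_one]⟩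

theorem mem_twins (h : NC G) {u : G} : u ∈ hp.twins h ↔ u ∈ Cz a ∧ u * u = 1 := Iff.rfl

variable [IsSimpleGroup G]

/-- Only `t` centralises `a`. -/
theorem no_twin (hna : ¬ IsMulCommutative G) (h : NC G) {u : G} (hu : orderOf u = 2)
    (hua : u ∈ Cz a) : u = t := by
  by_contra hut
  haveI : Fact (Nat.Prime 2) := ⟨Nat.prime_two⟩
  obtain ⟨T, hTodd⟩ := exists_sylow (Cz t)
  have hTp : ∀ H : Subgroup G, H ≤ (T : Subgroup G) → IsPGroup 2 H := fun H hH =>
    T.isPGroup'.to_le hH
  set Z := hp.twins h with hZ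
  have hZp : IsPGroup 2 Z := by
    rintro ⟨z, hz⟩
    exact ⟨1, Subtype.ext (by simp [pow_two, hz.2])⟩
  have hZc : ∀ z ∈ Z, ∀ g ∈ Cz t, Commute g z := by
    intro z hz g hg
    by_cases hz1 : z = 1
    · rw [hz1]; exact Commute.one_right g
    rw [← hp.Cz_eq_of_mem h (order_two_of_sq hz.2 hz1) hz.1] at hg
    exact mem_Cz.1 hg
  have hZC : Z ≤ Cz t := fun z hz => hp.le h hz.1
  have hZT : Z ≤ (T : Subgroup G) ⊓ Cz t := by
    have hle : Z ≤ Subgroup.normalizer (((T : Subgroup G) ⊓ Cz t : Subgroup G) : Set G) := fun z hz =>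
      Subgroup.centralizer_le_normalizer _
        (Subgroup.mem_centralizer_iff.2 fun g hg => (hZc z hz g hg.2).eq)
    have := eq_of_odd_relIndex
      (IsPGroup.to_sup_of_normal_right' hZp (hTp _ inf_le_left) hle) le_sup_right
      (sup_le hZC inf_le_right) hTodd
    exact le_sup_left.trans this.le
  -- `T` centralises `t`
  have hTle : (T : Subgroup G) ≤ Cz t := by
    by_contra hnot
    obtain ⟨g, hgT, hgC, hgn⟩ := exists_normalizer_step hnot
    have hga : g * a * g⁻¹ ≠ 1 := fun e => hp.a_ne (conj_eq_one_iff.1 e)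
    have hconj : ∀ z ∈ Z, g * z * g⁻¹ ∈ Z := by
      intro z hz
      refine ⟨?_, by
        calc g * z * g⁻¹ * (g * z * g⁻¹) = g * (z * z) * g⁻¹ := by group
          _ = 1 := by rw [hz.2]; group⟩
      by_contra hna'
      by_cases hz1 : z = 1
      · exact hna' (by rw [hz1, mul_one, mul_inv_cancel]; exact one_mem _)
      exact hga (hp.nontwin h hu hua hut ((order_conj g z).trans (order_two_of_sq hz.2 hz1))
        (hgn z (hZT hz)).2 hna' ((order_conj g a).symm ▸ hp.odd)
        ((Commute.symm (mem_Cz.1 hz.1 : Commute z a)).map (MulAut.conj g).toMonoidHom))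
    set U : Subgroup G := (T : Subgroup G) ⊓ Subgroup.normalizer (Z : Set G) with hU
    have hgU : g ∈ U := ⟨hgT, Subgroup.mem_normalizer_iff_map_conj_eq.2 (by
      refine Subgroup.eq_of_le_of_card_ge ?_ (Subgroup.card_map_of_injective (MulAut.conj g).injective).ge
      rintro _ ⟨z, hz, rfl⟩
      exact hconj z hz)⟩
    have hZU : Z ≤ U := le_inf (hZT.trans inf_le_left) Subgroup.le_normalizer
    haveI : (Z.subgroupOf U).Normal :=
      (Subgroup.normal_subgroupOf_iff_le_normalizer hZU).2 inf_le_right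
    haveI := (hTp U inf_le_left).isNilpotent
    have hne : Z.subgroupOf U ≠ ⊥ := fun e => by
      have htZ : t ∈ Z := ⟨hp.mem_Cza, mul_self hp.ht⟩
      have : (⟨t, hZU htZ⟩ : U) ∈ Z.subgroupOf U := htZ
      rw [e, Subgroup.mem_bot] at this
      exact ne_one hp.ht (congrArg Subtype.val this)
    obtain ⟨⟨⟨z, hzU⟩, hz⟩, hz1⟩ :=
      Subgroup.ne_bot_iff_exists_ne_one.1 (SolvStruct.inf_center_ne_bot hne)
    have hzo : orderOf z = 2 := order_two_of_sq hz.1.2 fun e => hz1 (Subtype.ext (Subtype.ext e))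
    have hgz : g ∈ Cz z :=
      mem_Cz.2 (congrArg Subtype.val (Subgroup.mem_center_iff.1 hz.2 ⟨g, hgU⟩))
    rw [hp.Cz_eq_of_mem h hzo hz.1.1] at hgz
    exact hgC hgz
  rw [inf_eq_left.2 hTle] at hTodd hZT
  obtain ⟨x, hxC, ⟨k, hk⟩, hxd, hgen, hfree⟩ := hp.exists_gen h
  rcases k with _ | k
  · -- `a` is central in the centraliser of `t`
    have hx1 : x = 1 := orderOf_eq_one_iff.1 hk
    have hall : Cz t ≤ Cz a := fun y hy => by
      obtain ⟨i, hi⟩ := hgen y hy
      rwa [hx1, one_zpow, inv_one, one_mul] at hi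
    have hnorm : ∀ y ∈ Cz t, y ≠ 1 →
        Subgroup.normalizer (Subgroup.zpowers y : Set G) = Cz t := by
      intro y hy hy1
      rcases Nat.even_or_odd (orderOf y) with he | ho
      · obtain ⟨v, hv, hvy⟩ := exists_invol_zpowers he
        rw [norm_eq h hv hvy (Subgroup.mem_zpowers y) hy1,
          hp.Cz_eq_of_mem h hv (hall (Subgroup.zpowers_le.2 hy hvy))]
      · exact norm_odd h hp.ht (mem_Cz.1 hy) ho hy1
    have hcent : ∀ y ∈ Cz t, y ≠ 1 → Subgroup.centralizer ({y} : Set G) ≤ Cz t := by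
      intro y hy hy1 g hg
      rw [← hnorm y hy hy1]
      refine Subgroup.centralizer_le_normalizer _ (Subgroup.mem_centralizer_iff.2 fun b hb => ?_)
      obtain ⟨j, rfl⟩ := Subgroup.mem_zpowers_iff.1 hb
      have hgy : Commute g y := mem_Cz.1 hg
      exact (hgy.zpow_right j).eq.symm
    have hnil : Group.IsNilpotent (Cz t) := by
      refine ((Group.isNilpotent_of_finite_tfae (G := Cz t)).out 0 3).2 ?_
      intro r hr P
      refine ⟨fun y hy g => ?_⟩
      by_cases hy1 : y = 1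
      · rw [hy1, mul_one, mul_inv_cancel]; exact one_mem _
      have hg := hnorm (y : G) y.2 fun e => hy1 (Subtype.ext e)
      obtain ⟨i, hi⟩ := (Subgroup.mem_normalizer_iff.1 (hg.ge g.2) (y : G)).1 (Subgroup.mem_zpowers _)
      rw [show g * y * g⁻¹ = y ^ i from Subtype.ext (by simpa using hi.symm)]
      exact zpow_mem hy i
    have hne : Cz t ≠ ⊤ := fun e => by
      have hc : t ∈ Subgroup.center G := Subgroup.mem_center_iff.2 fun g =>
        (mem_Cz.1 (e ▸ Subgroup.mem_top g))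
      rcases IsSimpleGroup.eq_bot_or_eq_top_of_normal (Subgroup.center G) inferInstance with e' | e'
      · rw [e', Subgroup.mem_bot] at hc; exact ne_one hp.ht hc
      · exact hna ⟨⟨fun v w => (Subgroup.mem_center_iff.1 (e' ▸ Subgroup.mem_top v) w).symm⟩⟩
    have hK : CNSimple.TIHyp (Cz t) := by
      refine ⟨⟨hnil, fun e => ?_, fun r hr hrd _ => ?_, hcent⟩,
        hp.ht ▸ Subgroup.orderOf_dvd_natCard _ (self_mem_Cz t), fun e => ?_⟩
      · have := self_mem_Cz t
        rw [e, Subgroup.mem_bot] at this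
        exact ne_one hp.ht this
      · obtain ⟨Q⟩ : Nonempty (Sylow r (Cz t)) := inferInstance
        obtain ⟨R, hR⟩ := (Q.isPGroup'.map (Cz t).subtype).exists_le_sylow
        have hQ1 : (Q : Subgroup (Cz t)) ≠ ⊥ := Q.ne_bot_of_dvd_card hrd
        obtain ⟨⟨q, hq⟩, hq1⟩ := Subgroup.ne_bot_iff_exists_ne_one.1 hQ1
        haveI : Nontrivial (R : Subgroup G) := ⟨⟨⟨q, hR ⟨q, hq, rfl⟩⟩, 1, fun e =>
          hq1 (Subtype.ext (Subtype.ext (congrArg (fun r : (R : Subgroup G) => (r : G)) e)))⟩⟩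
        haveI := R.isPGroup'.center_nontrivial
        obtain ⟨⟨⟨w, hw⟩, hwc⟩, hw1⟩ := exists_ne (1 : Subgroup.center (R : Subgroup G))
        have hwC : w ∈ Cz t := hcent q q.2 (fun e => hq1 (Subtype.ext (Subtype.ext e)))
          (mem_Cz.2 (congrArg Subtype.val (Subgroup.mem_center_iff.1 hwc ⟨q, hR ⟨q, hq, rfl⟩⟩)).symm)
        exact ⟨R, fun r' hr' => hcent w hwC (fun e => hw1 (Subtype.ext (Subtype.ext e)))
          (mem_Cz.2 (congrArg Subtype.val (Subgroup.mem_center_iff.1 hwc ⟨r', hr'⟩)))⟩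
      · have hn := Subgroup.normalizer_eq_top_iff.1 e
        rcases IsSimpleGroup.eq_bot_or_eq_top_of_normal (Cz t) hn with e' | e'
        · have := self_mem_Cz t
          rw [e', Subgroup.mem_bot] at this
          exact ne_one hp.ht this
        · exact hne e'
    have := PBasic.eq_one_of_isPGroup_of_coprime hK.isPGroup_two (mem_Cz.2 hp.comm.eq : a ∈ Cz t)
      (Nat.coprime_two_right.2 hp.odd)
    exact hp.a_ne this
  · -- transfer
    obtain ⟨m, hm⟩ := Nat.odd_iff.2 (Nat.two_dvd_ne_zero.1 T.not_dvd_index)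
    set M := (T : Subgroup G) ⊓ Cz a with hM
    have hidx : M.index = 2 ^ (k + 1) * (2 * m + 1) := by
      have h1 := hp.card_eq h hTle hTodd
      have h2 : M.index * Nat.card M = (T : Subgroup G).index * Nat.card (T : Subgroup G) := by
        rw [Subgroup.index_mul_card, Subgroup.index_mul_card]
      rw [h1, show (T : Subgroup G).index = 2 * m + 1 from hm, ← hxd, hk] at h2
      exact Nat.eq_of_mul_eq_mul_right (Nat.card_pos (α := M)) (h2.trans (by rw [← hM]; ring))
    obtain ⟨g, hg⟩ := exists_conj_mem hna M hk ⟨m, rfl⟩ hidx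
    have hko : orderOf (x ^ 2 ^ k) = 2 := by
      rw [orderOf_pow' x (by positivity), hk,
        Nat.gcd_eq_right (pow_dvd_pow 2 (Nat.le_succ k)), Nat.pow_div (Nat.le_succ k) two_pos,
        show k + 1 - k = 1 by omega, pow_one]
    have hxa : x ^ 2 ^ k ∉ Cz a := fun e =>
      ne_one hko (hfree _ (pow_mem (Subgroup.mem_zpowers x) _) e)
    have hcomm : Commute (g * a * g⁻¹) (x ^ 2 ^ k) := by
      have e : Commute a (g⁻¹ * x ^ 2 ^ k * g) := (mem_Cz.1 hg.2).symm
      have e' := e.map (MulAut.conj g).toMonoidHom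
      simpa [mul_assoc] using e'
    refine hp.a_ne (conj_eq_one_iff.1 (hp.nontwin h hu hua hut hko (pow_mem hxC _) hxa ?_ hcomm))
    rw [order_conj]
    exact hp.odd

end Pair

end Cfsg.Agent.NormCyc
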